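import Groth.Agent.H7CDiv.Contract
import Groth.Agent.H05EGA4.SerreCond
import Groth.Agent.H29Ref.DivisorPart
import Groth.Agent.H8Props.Reduced
import Groth.Agent.H22Alg.FlatSurj
import Groth.Prelude.Def_IntMult
import Groth.Prelude.Def_BlowUp2

/-!
Contractions of effective Cartier divisors along flat morphisms, at the stalks.
-/

set_option autoImplicit false
set_option linter.style.haveILetI false
universe u

open AlgebraicGeometry CategoryTheory TopologicalSpace IsLocalRing

namespace Groth.Agent.H7CDiv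

variable {X Y : Scheme.{u}}

/-- The prime of the stalk at `x` given by a generization. -/
noncomputable def primeOf {x' x : X} (h : x' ⤳ x) : PrimeSpectrum (X.presheaf.stalk x) :=
  ⟨(maximalIdeal (X.presheaf.stalk x')).comap (X.presheaf.stalkSpecializes h).hom, inferInstance⟩

theorem isLocalization_stalkSpecializes {x' x : X} (h : x' ⤳ x) :
    letI := (X.presheaf.stalkSpecializes h).hom.toAlgebra
    IsLocalization.AtPrime (X.presheaf.stalk x') (primeOf h).asIdeal := by
  obtain ⟨U, hU, hxU, -⟩ := exists_isAffineOpen_mem_and_subset (x := x) (U := ⊤) trivial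
  have hx'U : x' ∈ U := h.mem_open U.2 hxU
  letI := (X.presheaf.stalkSpecializes h).hom.toAlgebra
  letI := TopCat.Presheaf.algebra_section_stalk X.presheaf (⟨x, hxU⟩ : U)
  letI := TopCat.Presheaf.algebra_section_stalk X.presheaf (⟨x', hx'U⟩ : U)
  haveI := hU.isLocalization_stalk ⟨x, hxU⟩
  haveI := hU.isLocalization_stalk ⟨x', hx'U⟩
  haveI : IsScalarTower Γ(X, U) (X.presheaf.stalk x) (X.presheaf.stalk x') :=
    IsScalarTower.of_algebraMap_eq fun r => (X.presheaf.germ_stalkSpecializes_apply hxU h r).symm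
  set Q := hU.primeIdealOf ⟨x, hxU⟩
  set Q' := hU.primeIdealOf ⟨x', hx'U⟩
  have hle : Q.asIdeal.primeCompl ≤ Q'.asIdeal.primeCompl := by
    intro r hr
    by_contra hr'
    have h1 : IsUnit (algebraMap Γ(X, U) (X.presheaf.stalk x') r) := by
      rw [IsScalarTower.algebraMap_apply Γ(X, U) (X.presheaf.stalk x) (X.presheaf.stalk x')]
      exact (IsLocalization.map_units _ (⟨r, hr⟩ : Q.asIdeal.primeCompl)).map _
    exact hr' ((IsLocalization.AtPrime.isUnit_to_map_iff (X.presheaf.stalk x') Q'.asIdeal r).1 h1)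
  haveI := IsLocalization.isLocalization_of_submonoid_le (R := Γ(X, U)) (X.presheaf.stalk x)
    (X.presheaf.stalk x') Q.asIdeal.primeCompl Q'.asIdeal.primeCompl hle
  refine IsLocalization.of_le (Q'.asIdeal.primeCompl.map (algebraMap Γ(X, U) (X.presheaf.stalk x)))
    (primeOf h).asIdeal.primeCompl ?_ fun r hr => ?_
  · rintro _ ⟨r, hr, rfl⟩ hmem
    have h1 : algebraMap (X.presheaf.stalk x) (X.presheaf.stalk x') (algebraMap Γ(X, U) _ r) ∈
        maximalIdeal (X.presheaf.stalk x') := hmem
    rw [← IsScalarTower.algebraMap_apply Γ(X, U)] at h1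
    exact (mem_maximalIdeal _).1 h1 (IsLocalization.map_units _ (⟨r, hr⟩ : Q'.asIdeal.primeCompl))
  · by_contra hc
    exact hr ((mem_maximalIdeal _).2 hc)

theorem primeOf_fromSpecStalk {x : X} (q : PrimeSpectrum (X.presheaf.stalk x))
    (h : X.fromSpecStalk x q ⤳ x) : primeOf h = q := by
  apply (X.fromSpecStalk x).isEmbedding.injective
  show X.fromSpecStalk x (primeOf h) = X.fromSpecStalk x q
  have e := congr($(Scheme.SpecMap_stalkSpecializes_fromSpecStalk h) (closedPoint _))
  rw [Scheme.Hom.comp_apply, Scheme.fromSpecStalk_closedPoint] at e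
  exact e

theorem fromSpecStalk_specializes {x : X} (q : PrimeSpectrum (X.presheaf.stalk x)) :
    X.fromSpecStalk x q ⤳ x := by
  have : X.fromSpecStalk x q ∈ Set.range (X.fromSpecStalk x) := ⟨q, rfl⟩
  rwa [Scheme.range_fromSpecStalk] at this

theorem fromSpecStalk_primeOf {x' x : X} (h : x' ⤳ x) : X.fromSpecStalk x (primeOf h) = x' := by
  have e := congr($(Scheme.SpecMap_stalkSpecializes_fromSpecStalk h) (closedPoint _))
  rw [Scheme.Hom.comp_apply, Scheme.fromSpecStalk_closedPoint] at e
  exact e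

theorem primeOf_comap (f : X ⟶ Y) {x' x : X} (h : x' ⤳ x) :
    (primeOf h).asIdeal.comap (f.stalkMap x).hom = (primeOf (h.map f.continuous)).asIdeal := by
  show ((maximalIdeal _).comap (X.presheaf.stalkSpecializes h).hom).comap (f.stalkMap x).hom =
    (maximalIdeal _).comap (Y.presheaf.stalkSpecializes (h.map f.continuous)).hom
  rw [Ideal.comap_comap, ← CommRingCat.hom_comp, ← Scheme.Hom.stalkSpecializes_stalkMap,
    CommRingCat.hom_comp, ← Ideal.comap_comap]
  congr 1
  exact maximalIdeal_comap (f.stalkMap x').hom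

theorem specializes_of_primeOf_le {y y₁ y₂ : Y} (h₁ : y₁ ⤳ y) (h₂ : y₂ ⤳ y)
    (h : (primeOf h₁).asIdeal ≤ (primeOf h₂).asIdeal) : y₁ ⤳ y₂ := by
  have := ((PrimeSpectrum.le_iff_specializes (primeOf h₁) (primeOf h₂)).1 h).map
    (Y.fromSpecStalk y).continuous
  rwa [fromSpecStalk_primeOf, fromSpecStalk_primeOf] at this

/-- The stalks of an effective Cartier ideal are generated by one nonzerodivisor. -/
theorem exists_gen_stalkIdeal {I : X.IdealSheafData} (hI : BlowUp.IsEffCartierIdeal I) (x : X) :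
    ∃ b, b ∈ nonZeroDivisors (X.presheaf.stalk x) ∧ IntMult.stalkIdeal I x = Ideal.span {b} := by
  obtain ⟨U, hxU, f, hf, hfI⟩ := hI x
  refine ⟨(X.presheaf.germ U.1 x hxU).hom f, ?_, ?_⟩
  · letI := TopCat.Presheaf.algebra_section_stalk X.presheaf (⟨x, hxU⟩ : U.1)
    haveI := U.2.isLocalization_stalk ⟨x, hxU⟩
    exact IsLocalization.map_nonZeroDivisors_le (U.2.primeIdealOf ⟨x, hxU⟩).asIdeal.primeCompl
      (X.presheaf.stalk x) ⟨f, hf, rfl⟩
  · rw [H29Ref.stalkIdeal_eq _ x U hxU, hfI, Ideal.map_span, Set.image_singleton]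

/-- Membership in the stalk of an effective Cartier ideal is decided at depth at most one. -/
theorem mem_stalkIdeal_of_forall [IsLocallyNoetherian X] {I : X.IdealSheafData}
    (hI : BlowUp.IsEffCartierIdeal I) (x : X) (r : X.presheaf.stalk x)
    (h : ∀ (x' : X) (hx : x' ⤳ x), (primeOf hx).asIdeal ∈
        associatedPrimes (X.presheaf.stalk x) (X.presheaf.stalk x ⧸ IntMult.stalkIdeal I x) →
      X.presheaf.stalkSpecializes hx r ∈ IntMult.stalkIdeal I x') :
    r ∈ IntMult.stalkIdeal I x := by
  by_contra hr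
  obtain ⟨Q, hQ, hle⟩ := exists_le_isAssociatedPrime_of_isNoetherianRing (R := X.presheaf.stalk x)
    (Ideal.Quotient.mk (IntMult.stalkIdeal I x) r) (fun e => hr (Ideal.Quotient.eq_zero_iff_mem.1 e))
  haveI := hQ.1
  let q : PrimeSpectrum (X.presheaf.stalk x) := ⟨Q, inferInstance⟩
  have hx := fromSpecStalk_specializes q
  have hq : (primeOf hx).asIdeal = Q := congrArg PrimeSpectrum.asIdeal (primeOf_fromSpecStalk q hx)
  have h1 := h _ hx (hq.symm ▸ hQ)
  rw [H29Ref.stalkIdeal_specializes I hx] at h1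
  letI := (X.presheaf.stalkSpecializes hx).hom.toAlgebra
  haveI := isLocalization_stalkSpecializes hx
  obtain ⟨s, hs, hsr⟩ := (IsLocalization.algebraMap_mem_map_algebraMap_iff (primeOf hx).asIdeal.primeCompl
    (X.presheaf.stalk (X.fromSpecStalk x q)) (IntMult.stalkIdeal I x) r).1 h1
  refine hs (hq.symm ▸ hle (Submodule.mem_colon_singleton.2 ?_))
  show s • Ideal.Quotient.mk (IntMult.stalkIdeal I x) r ∈ (⊥ : Submodule (X.presheaf.stalk x) _)
  rw [Submodule.mem_bot]
  exact Ideal.Quotient.eq_zero_iff_mem.2 hsr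

theorem depth_stalk_eq [IsLocallyNoetherian X] {x' x : X} (h : x' ⤳ x) :
    LocCoh.depth (X.presheaf.stalk x') (X.presheaf.stalk x') =
      LocCoh.depth (Localization.AtPrime (primeOf h).asIdeal) (Localization.AtPrime (primeOf h).asIdeal) := by
  letI := (X.presheaf.stalkSpecializes h).hom.toAlgebra
  haveI := isLocalization_stalkSpecializes h
  exact H05EGA4.depth_eq_of_ringEquiv
    (IsLocalization.algEquiv (primeOf h).asIdeal.primeCompl (X.presheaf.stalk x') _).toRingEquiv

variable (f : X ⟶ Y) (J : X.IdealSheafData)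

/-- `L` gives `J` over the generizations of `y`. -/
def Controls (y : Y) (L : Ideal (Y.presheaf.stalk y)) : Prop :=
  ∀ (x : X) (h : f x ⤳ y), IntMult.stalkIdeal J x =
    L.map (Y.presheaf.stalkSpecializes h ≫ f.stalkMap x).hom

variable [Flat f]

theorem faithfullyFlat_stalkMap (x : X) :
    letI := (f.stalkMap x).hom.toAlgebra
    Module.FaithfullyFlat (Y.presheaf.stalk (f x)) (X.presheaf.stalk x) := by
  letI := (f.stalkMap x).hom.toAlgebra
  haveI : Module.Flat (Y.presheaf.stalk (f x)) (X.presheaf.stalk x) := Flat.stalkMap f x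
  haveI : IsLocalHom (algebraMap (Y.presheaf.stalk (f x)) (X.presheaf.stalk x)) :=
    inferInstanceAs (IsLocalHom (f.stalkMap x).hom)
  exact Module.FaithfullyFlat.of_flat_of_isLocalHom

theorem comap_map_stalkMap (x : X) (I : Ideal (Y.presheaf.stalk (f x))) :
    (I.map (f.stalkMap x).hom).comap (f.stalkMap x).hom = I := by
  letI := (f.stalkMap x).hom.toAlgebra
  haveI := faithfullyFlat_stalkMap f x
  exact Ideal.comap_map_eq_self_of_faithfullyFlat (B := X.presheaf.stalk x) I

variable [IsLocallyNoetherian X] [IsLocallyNoetherian Y]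
  (hJ : BlowUp.IsEffCartierIdeal J)
  (H : ∀ y : Y, LocCoh.depth (Y.presheaf.stalk y) (Y.presheaf.stalk y) ≤ 1 →
    ∃ L : Ideal (Y.presheaf.stalk y), Controls f J y L)

include hJ H in
/-- At each point of the source the divisor is generated by a nonzerodivisor of the base. -/
theorem exists_base_gen (x : X) : ∃ t, t ∈ nonZeroDivisors (Y.presheaf.stalk (f x)) ∧
    (IntMult.stalkIdeal J x).comap (f.stalkMap x).hom = Ideal.span {t} ∧
    IntMult.stalkIdeal J x = (Ideal.span {t}).map (f.stalkMap x).hom := by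
  obtain ⟨b, hb, hJb⟩ := exists_gen_stalkIdeal hJ x
  letI := (f.stalkMap x).hom.toAlgebra
  haveI : Module.Flat (Y.presheaf.stalk (f x)) (X.presheaf.stalk x) := Flat.stalkMap f x
  haveI : IsLocalHom (algebraMap (Y.presheaf.stalk (f x)) (X.presheaf.stalk x)) :=
    inferInstanceAs (IsLocalHom (f.stalkMap x).hom)
  have hmap := map_comap_eq (A := Y.presheaf.stalk (f x)) hb fun p hp => by
    have hy := fromSpecStalk_specializes p
    have hpp : (primeOf hy).asIdeal = p.asIdeal := congrArg PrimeSpectrum.asIdeal (primeOf_fromSpecStalk p hy)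
    have hd : LocCoh.depth (Y.presheaf.stalk (Y.fromSpecStalk _ p))
        (Y.presheaf.stalk (Y.fromSpecStalk _ p)) ≤ 1 := by
      rw [depth_stalk_eq hy, primeOf_fromSpecStalk p hy]; exact hp
    obtain ⟨L, hL⟩ := H _ hd
    refine ⟨L.comap (Y.presheaf.stalkSpecializes hy).hom, fun q hq => ?_⟩
    have hx := fromSpecStalk_specializes q
    have hle : (primeOf (hx.map f.continuous)).asIdeal ≤ (primeOf hy).asIdeal := by
      rw [← primeOf_comap f hx, primeOf_fromSpecStalk q hx, hpp]
      exact hq
    have hsp := specializes_of_primeOf_le _ _ hle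
    have hLmap : (L.comap (Y.presheaf.stalkSpecializes hy).hom).map (Y.presheaf.stalkSpecializes hy).hom = L := by
      letI := (Y.presheaf.stalkSpecializes hy).hom.toAlgebra
      haveI := isLocalization_stalkSpecializes hy
      exact IsLocalization.map_comap (primeOf hy).asIdeal.primeCompl _ L
    have key := hL _ hsp
    rw [H29Ref.stalkIdeal_specializes J hx, hJb] at key
    conv_rhs at key => rw [← hLmap, Ideal.map_map, ← CommRingCat.hom_comp, ← Category.assoc,
      TopCat.Presheaf.stalkSpecializes_comp, Scheme.Hom.stalkSpecializes_stalkMap f (X.fromSpecStalk x q) x hx,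
      CommRingCat.hom_comp,
      ← Ideal.map_map]
    letI := (X.presheaf.stalkSpecializes hx).hom.toAlgebra
    haveI := isLocalization_stalkSpecializes hx
    let e := IsLocalization.algEquiv (primeOf hx).asIdeal.primeCompl (X.presheaf.stalk (X.fromSpecStalk x q))
      (Localization.AtPrime (primeOf hx).asIdeal)
    have key' := congrArg (Ideal.map e.toAlgHom.toRingHom) key
    have hcomp : e.toAlgHom.toRingHom.comp (X.presheaf.stalkSpecializes hx).hom =
        algebraMap (X.presheaf.stalk x) (Localization.AtPrime (primeOf hx).asIdeal) := RingHom.ext e.commutes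
    rw [Ideal.map_map, Ideal.map_map, hcomp] at key'
    have hpq := primeOf_fromSpecStalk q hx
    rw [hpq] at key'
    exact key'.symm
  obtain ⟨t, ht, hC⟩ := exists_generator_of_map_comap_eq hb hmap
  refine ⟨t, ht, hJb ▸ hC, ?_⟩
  rw [hJb, ← hC]
  exact hmap.symm

include hJ in
/-- The contraction does not depend on the point of the fibre. -/
theorem mem_comap_iff (x : X) (L : ∀ y : Y, Ideal (Y.presheaf.stalk y))
    (hL : ∀ y : Y, LocCoh.depth (Y.presheaf.stalk y) (Y.presheaf.stalk y) ≤ 1 → Controls f J y (L y))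
    (a : Y.presheaf.stalk (f x)) :
    a ∈ (IntMult.stalkIdeal J x).comap (f.stalkMap x).hom ↔
      ∀ (y' : Y) (h : y' ⤳ f x), LocCoh.depth (Y.presheaf.stalk y') (Y.presheaf.stalk y') ≤ 1 →
        Y.presheaf.stalkSpecializes h a ∈ L y' := by
  constructor
  · intro ha y' h hd
    obtain ⟨x', hx, rfl⟩ : ∃ x', x' ⤳ x ∧ f x' = y' := by
      letI := (f.stalkMap x).hom.toAlgebra
      haveI := faithfullyFlat_stalkMap f x
      obtain ⟨q, hq⟩ := PrimeSpectrum.comap_surjective_of_faithfullyFlat
        (A := Y.presheaf.stalk (f x)) (B := X.presheaf.stalk x) (primeOf h)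
      refine ⟨_, fromSpecStalk_specializes q, ?_⟩
      rw [← Scheme.Hom.comp_apply, ← Scheme.SpecMap_stalkMap_fromSpecStalk, Scheme.Hom.comp_apply,
        show Spec.map (f.stalkMap x) q = primeOf h from hq, fromSpecStalk_primeOf]
    have h1 : X.presheaf.stalkSpecializes hx (f.stalkMap x a) ∈ IntMult.stalkIdeal J x' := by
      rw [H29Ref.stalkIdeal_specializes J hx]
      exact Ideal.mem_map_of_mem _ ha
    rw [hL _ hd x' specializes_rfl, TopCat.Presheaf.stalkSpecializes_refl, Category.id_comp,
      ← Scheme.Hom.stalkSpecializes_stalkMap_apply] at h1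
    rw [← comap_map_stalkMap f x' (L (f x'))]
    exact h1
  · intro ha
    refine mem_stalkIdeal_of_forall hJ x _ fun x' hx hass => ?_
    obtain ⟨b, hb, hJb⟩ := exists_gen_stalkIdeal hJ x
    rw [hJb] at hass
    letI := (f.stalkMap x).hom.toAlgebra
    haveI : Module.Flat (Y.presheaf.stalk (f x)) (X.presheaf.stalk x) := Flat.stalkMap f x
    have hd := depth_le_one_comap hb (primeOf hx) hass (primeOf (hx.map f.continuous)) (primeOf_comap f hx)
    rw [← depth_stalk_eq] at hd
    rw [← Scheme.Hom.stalkSpecializes_stalkMap_apply, hL _ hd x' specializes_rfl,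
      TopCat.Presheaf.stalkSpecializes_refl, Category.id_comp]
    exact Ideal.mem_map_of_mem _ (ha _ _ hd)

end Groth.Agent.H7CDiv
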