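import Mathlib
import Groth.Agent.H4LC.FiniteH1
import Groth.Agent.H4Depth.SkFree
import Groth.Agent.H4Depth.DepthLemmas
import Groth.Agent.H8Props.FlatDepth
import Groth.Agent.H05EGA4.FiniteModule
import Groth.Agent.S2069
import Groth.Agent.S9669

/-!
Contraction of a principal ideal along a flat local homomorphism, controlled at the primes where
the base has depth at most one.
-/

set_option autoImplicit false
set_option linter.style.haveILetI false
universe u

open IsLocalRing TensorProduct Pointwise

namespace Groth.Agent.H7CDiv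

/-- The associated primes of a principal quotient by a nonzerodivisor have depth one. -/
theorem depth_le_one_of_associated {D : Type u} [CommRing D] [IsNoetherianRing D] {b : D}
    (hb : b ∈ nonZeroDivisors D) (p : PrimeSpectrum D)
    (hp : p.asIdeal ∈ associatedPrimes D (D ⧸ Ideal.span {b})) :
    LocCoh.depth (Localization.AtPrime p.asIdeal) (Localization.AtPrime p.asIdeal) ≤ 1 := by
  let L := Localization.AtPrime p.asIdeal
  let e0 : (D ⧸ Ideal.span {b}) ≃ₗ[D] QuotSMulTop b D := Submodule.quotEquivOfEq _ _ (by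
    rw [← Submodule.ideal_span_singleton_smul, smul_eq_mul, Ideal.mul_top])
  have hp' : p.asIdeal ∈ associatedPrimes D (QuotSMulTop b D) := (LinearEquiv.AssociatedPrimes.eq e0) ▸ hp
  have h0 := H4LC.depth_eq_zero_of_associated (QuotSMulTop b D) hp'
  obtain ⟨e1⟩ := H05EGA4.FiniteModule.nonempty_localized_quot_equiv (N := D) b p.asIdeal
  obtain ⟨e2⟩ := H4Depth.exists_localizedModule_self_equiv p.asIdeal
  have hbp : b ∈ p.asIdeal := by
    obtain ⟨-, z, hz⟩ := isAssociatedPrime_iff.1 hp
    rw [hz, Submodule.mem_colon_singleton, Submodule.mem_bot]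
    obtain ⟨z', rfl⟩ := Ideal.Quotient.mk_surjective z
    exact Ideal.Quotient.eq_zero_iff_mem.2 (Ideal.mul_mem_right _ _ (Ideal.mem_span_singleton_self b))
  have hmem : algebraMap D L b ∈ maximalIdeal L :=
    (IsLocalization.AtPrime.to_map_mem_maximal_iff L p.asIdeal b).2 hbp
  have hreg : IsSMulRegular L (algebraMap D L b) :=
    (isRegular_iff_mem_nonZeroDivisors.2 hb).left.isSMulRegular.of_flat
  have hreg' : IsSMulRegular (LocalizedModule p.asIdeal.primeCompl D) (algebraMap D L b) :=
    (e2.isSMulRegular_congr _).2 hreg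
  have h := H4Depth.idealDepth_quotSMulTop_add_one hmem hreg'
  rw [← H4Depth.idealDepth_congr _ e1, ← H4Depth.idealDepth_congr (M := LocalizedModule _ D) _ e2] at *
  rw [LocCoh.depth] at h0
  rw [h0, zero_add] at h
  exact h.ge

variable {A B : Type u} [CommRing A] [CommRing B] [IsNoetherianRing A] [IsNoetherianRing B]
  [Algebra A B] [Module.Flat A B]

omit [Module.Flat A B] in
/-- An associated prime of a contraction lifts. -/
theorem exists_associated_over (J : Ideal B) {p : Ideal A}
    (hp : p ∈ associatedPrimes A (A ⧸ J.comap (algebraMap A B))) :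
    ∃ q : Ideal B, q ∈ associatedPrimes B (B ⧸ J) ∧ q.comap (algebraMap A B) = p := by
  obtain ⟨hpp, z, hz⟩ := isAssociatedPrime_iff.1 hp
  obtain ⟨c, rfl⟩ := Ideal.Quotient.mk_surjective z
  let w : B ⧸ J := Ideal.Quotient.mk J (algebraMap A B c)
  let T : Submodule B (B ⧸ J) := Submodule.span B {w}
  have hann : ∀ x : B, x ∈ Module.annihilator B T ↔ x * algebraMap A B c ∈ J := by
    intro x
    rw [Module.mem_annihilator]
    refine ⟨fun h => ?_, fun h t => ?_⟩
    · have := congrArg Subtype.val (h ⟨w, Submodule.mem_span_singleton_self w⟩)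
      exact Ideal.Quotient.eq_zero_iff_mem.1 this
    · obtain ⟨r, hr⟩ := Submodule.mem_span_singleton.1 t.2
      refine Subtype.ext ?_
      show x • (t : B ⧸ J) = 0
      rw [← hr, smul_comm, show x • w = 0 from Ideal.Quotient.eq_zero_iff_mem.2 h, smul_zero]
  have hcomap : (Module.annihilator B T).comap (algebraMap A B) = p := by
    ext a
    rw [Ideal.mem_comap, hann, ← map_mul, hz, Submodule.mem_colon_singleton, Submodule.mem_bot]
    exact (Ideal.mem_comap.symm).trans (Ideal.Quotient.eq_zero_iff_mem (I := J.comap (algebraMap A B))).symm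
  obtain ⟨q, hq, hqp⟩ := Ideal.exists_minimalPrimes_comap_eq (I := Module.annihilator B T) (algebraMap A B) p
    (by rw [hcomap, Ideal.minimalPrimes_eq_subsingleton_self]; rfl)
  exact ⟨q, associatedPrimes.subset_of_injective (f := T.subtype) Subtype.val_injective
    (Module.associatedPrimes.minimalPrimes_annihilator_subset_associatedPrimes B T hq), hqp⟩

theorem depth_le_one_comap {b : B} (hb : b ∈ nonZeroDivisors B) (q : PrimeSpectrum B)
    (hq : q.asIdeal ∈ associatedPrimes B (B ⧸ Ideal.span {b})) (p : PrimeSpectrum A)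
    (hqp : q.asIdeal.comap (algebraMap A B) = p.asIdeal) :
    LocCoh.depth (Localization.AtPrime p.asIdeal) (Localization.AtPrime p.asIdeal) ≤ 1 := by
  refine le_trans ?_ (depth_le_one_of_associated hb q hq)
  haveI : q.asIdeal.LiesOver p.asIdeal := ⟨hqp.symm⟩
  let Ap := Localization.AtPrime p.asIdeal
  let Bq := Localization.AtPrime q.asIdeal
  letI := (Localization.localRingHom p.asIdeal q.asIdeal (algebraMap A B) hqp.symm).toAlgebra
  haveI : IsScalarTower A Ap Bq := IsScalarTower.of_algebraMap_eq fun x => by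
    rw [RingHom.algebraMap_toAlgebra, Localization.localRingHom_to_map]
    rfl
  haveI : Module.Flat A Bq := Module.Flat.trans A B Bq
  haveI : Module.Flat Ap Bq := (Module.flat_iff_of_isLocalization Ap p.asIdeal.primeCompl Bq).2 ‹_›
  haveI : IsLocalHom (algebraMap Ap Bq) := by
    rw [RingHom.algebraMap_toAlgebra]; exact Localization.isLocalHom_localRingHom _ _ _ _
  haveI := H8Props.FlatDepth.isLocalRing_fibre Ap Bq
  rw [H8Props.FlatDepth.depth_eq_add Ap Bq]
  exact le_self_add

/-- The contraction of a principal ideal generates it, given control at the primes of depth at most one. -/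
theorem map_comap_eq {b : B} (hb : b ∈ nonZeroDivisors B)
    (H : ∀ p : PrimeSpectrum A,
      LocCoh.depth (Localization.AtPrime p.asIdeal) (Localization.AtPrime p.asIdeal) ≤ 1 →
      ∃ L : Ideal A, ∀ q : PrimeSpectrum B, q.asIdeal.comap (algebraMap A B) ≤ p.asIdeal →
        (L.map (algebraMap A B)).map (algebraMap B (Localization.AtPrime q.asIdeal)) =
          (Ideal.span {b}).map (algebraMap B (Localization.AtPrime q.asIdeal))) :
    ((Ideal.span {b}).comap (algebraMap A B)).map (algebraMap A B) = Ideal.span {b} := by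
  set φ := algebraMap A B
  set C := (Ideal.span {b}).comap φ with hC
  refine le_antisymm Ideal.map_comap_le ((Ideal.span_singleton_le_iff_mem _).2 ?_)
  by_contra hbC
  have hne : Ideal.Quotient.mk (C.map φ) b ≠ 0 := fun h => hbC (Ideal.Quotient.eq_zero_iff_mem.1 h)
  obtain ⟨Q, hQ, hle⟩ := exists_le_isAssociatedPrime_of_isNoetherianRing (R := B) _ hne
  have hQ' : Q ∈ associatedPrimes B (B ⊗[A] (A ⧸ C)) :=
    (LinearEquiv.AssociatedPrimes.eq (Algebra.TensorProduct.quotIdealMapEquivTensorQuot B C).toLinearEquiv) ▸ hQ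
  rw [Groth.Agent.S2069.result, Set.mem_iUnion₂] at hQ'
  obtain ⟨p, hp, hQp⟩ := hQ'
  haveI : p.IsPrime := hp.1
  have hcomap : Q.comap φ = p := by
    refine (Groth.Agent.S9669.result (R := A) B p).2 Q ?_
    obtain ⟨h1, m, hm⟩ := isAssociatedPrime_iff.1 hQp
    refine ⟨h1, m, ?_⟩
    rw [hm]
    ext x
    simp [Submodule.mem_colon_singleton, Submodule.mem_annihilator_span_singleton]
  obtain ⟨q, hq, hqp⟩ := exists_associated_over (Ideal.span {b}) hp
  have hdep := depth_le_one_comap hb ⟨q, hq.1⟩ hq ⟨p, inferInstance⟩ hqp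
  obtain ⟨L, hL⟩ := H ⟨p, inferInstance⟩ hdep
  haveI : Q.IsPrime := hQ.1
  let BQ := Localization.AtPrime Q
  have hLC : (L.map φ).map (algebraMap B BQ) ≤ (C.map φ).map (algebraMap B BQ) := by
    rw [Ideal.map_le_iff_le_comap, Ideal.map_le_iff_le_comap]
    intro a ha
    let K := (Ideal.span {b}).colon {φ a}
    have hK : ¬ K.comap φ ≤ p := by
      intro hKp
      obtain ⟨P, hP, hPp⟩ := Ideal.exists_minimalPrimes_le hKp
      obtain ⟨q', hq', hq'P⟩ := Ideal.exists_minimalPrimes_comap_eq φ P hP
      haveI := hq'.1.1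
      have h1 := hL ⟨q', inferInstance⟩ (hq'P.le.trans hPp)
      obtain ⟨s, hs, hsmem⟩ := (IsLocalization.algebraMap_mem_map_algebraMap_iff q'.primeCompl
        (Localization.AtPrime q') (Ideal.span {b}) (φ a)).1
        (h1.le (Ideal.mem_map_of_mem _ (Ideal.mem_map_of_mem φ ha)))
      exact hs (hq'.1.2 (Submodule.mem_colon_singleton.2 hsmem))
    obtain ⟨s, hs, hsp⟩ := Set.not_subset.1 hK
    have hsC : s * a ∈ C := by
      rw [hC, Ideal.mem_comap, map_mul]
      exact Submodule.mem_colon_singleton.1 hs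
    have hu : IsUnit (algebraMap B BQ (φ s)) :=
      IsLocalization.map_units BQ (⟨φ s, fun h => hsp (hcomap ▸ h)⟩ : Q.primeCompl)
    show algebraMap B BQ (φ a) ∈ (C.map φ).map (algebraMap B BQ)
    rw [← Ideal.unit_mul_mem_iff_mem _ hu, ← map_mul, ← map_mul]
    exact Ideal.mem_map_of_mem _ (Ideal.mem_map_of_mem φ hsC)
  have hbQ := (hL ⟨Q, inferInstance⟩ hcomap.le).ge.trans hLC
    (Ideal.mem_map_of_mem _ (Ideal.mem_span_singleton_self b))
  obtain ⟨s, hs, hsmem⟩ := (IsLocalization.algebraMap_mem_map_algebraMap_iff Q.primeCompl BQ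
    (C.map φ) b).1 hbQ
  refine hs (hle (Submodule.mem_colon_singleton.2 ?_))
  show s • Ideal.Quotient.mk (C.map φ) b ∈ (⊥ : Submodule B _)
  rw [Submodule.mem_bot]
  exact Ideal.Quotient.eq_zero_iff_mem.2 hsmem

omit [IsNoetherianRing A] [IsNoetherianRing B] in
/-- In the local case the contraction is principal. -/
theorem exists_generator_of_map_comap_eq [IsLocalRing A] [IsLocalRing B] [IsLocalHom (algebraMap A B)]
    {b : B} (hb : b ∈ nonZeroDivisors B)
    (h : ((Ideal.span {b}).comap (algebraMap A B)).map (algebraMap A B) = Ideal.span {b}) :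
    ∃ t, t ∈ nonZeroDivisors A ∧ (Ideal.span {b}).comap (algebraMap A B) = Ideal.span {t} := by
  haveI : Module.FaithfullyFlat A B := Module.FaithfullyFlat.of_flat_of_isLocalHom
  set φ := algebraMap A B
  set C := (Ideal.span {b}).comap φ with hC
  obtain ⟨t, htC, hunit⟩ : ∃ t ∈ C, ∃ d, φ t = b * d ∧ IsUnit d := by
    by_contra hcon
    push_neg at hcon
    have hle : C.map φ ≤ Ideal.span {b} * maximalIdeal B := by
      rw [Ideal.map_le_iff_le_comap]
      intro t ht
      obtain ⟨d, hd⟩ := Ideal.mem_span_singleton'.1 (Ideal.mem_comap.1 ht)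
      rw [Ideal.mem_comap, ← hd, mul_comm d b]
      exact Ideal.mul_mem_mul (Ideal.mem_span_singleton_self b)
        ((mem_maximalIdeal _).2 (hcon t ht d (by rw [← hd, mul_comm])))
    obtain ⟨m, hm, hbm⟩ := Ideal.mem_span_singleton_mul.1
      (hle (h.ge (Ideal.mem_span_singleton_self b)))
    have h1 : (m - 1) * b = 0 := by rw [sub_mul, one_mul, mul_comm, hbm, sub_self]
    have : m = 1 := sub_eq_zero.1 ((mem_nonZeroDivisors_iff.1 hb).2 _ h1)
    exact (mem_maximalIdeal _).1 hm (this ▸ isUnit_one)
  obtain ⟨d, hd, hdu⟩ := hunit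
  refine ⟨t, mem_nonZeroDivisors_iff_right.2 fun z hz => ?_, le_antisymm ?_ ((Ideal.span_singleton_le_iff_mem _).2 htC)⟩
  · refine FaithfulSMul.algebraMap_injective A B ?_
    have : φ z * (b * d) = 0 := by rw [← hd, ← map_mul, hz, map_zero]
    rw [map_zero]
    exact (mem_nonZeroDivisors_iff_right.1 (mul_mem hb hdu.mem_nonZeroDivisors)) _ this
  · rw [← Ideal.comap_map_eq_self_of_faithfullyFlat (B := B) (Ideal.span {t}), Ideal.map_span,
      Set.image_singleton, hd, Ideal.span_singleton_mul_right_unit hdu]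

end Groth.Agent.H7CDiv
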