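import Groth.Agent.H7CDiv.Stalks
import Groth.Agent.H11Mero.Glue
import Groth.Agent.H29Blow.Basic
import Groth.Agent.H28Vert.Cartier
import Groth.Agent.H3CAlg.DiagStalk
import Mathlib.AlgebraicGeometry.Morphisms.FlatDescent

/-!
Effective Cartier divisors descend along faithfully flat morphisms when they do so at the points of
depth at most one.
-/

set_option autoImplicit false
set_option linter.style.haveILetI false
universe u

open AlgebraicGeometry CategoryTheory CategoryTheory.Limits TopologicalSpace IsLocalRing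

namespace Groth.Agent.H7CDiv

variable {X Y : Scheme.{u}} (f : X ⟶ Y) (J : X.IdealSheafData)

/-- Two germs generating the same invertible ideal do so nearby. -/
theorem exists_nhd_span_eq {W : X.Opens} (g h : Γ(X, W)) (x : X) (hx : x ∈ W)
    (hg : X.presheaf.germ W x hx g ∈ nonZeroDivisors (X.presheaf.stalk x))
    (e : Ideal.span {X.presheaf.germ W x hx g} = Ideal.span {X.presheaf.germ W x hx h}) :
    ∃ (O : X.Opens) (hO : O ≤ W), x ∈ O ∧ ∀ (y : X) (hy : y ∈ O),
      Ideal.span {X.presheaf.germ W y (hO hy) g} = Ideal.span {X.presheaf.germ W y (hO hy) h} := by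
  obtain ⟨c, hc⟩ := Ideal.mem_span_singleton'.1 (e ▸ Ideal.mem_span_singleton_self _ :
    X.presheaf.germ W x hx g ∈ Ideal.span {X.presheaf.germ W x hx h})
  obtain ⟨d, hd⟩ := Ideal.mem_span_singleton'.1 (e.symm ▸ Ideal.mem_span_singleton_self _ :
    X.presheaf.germ W x hx h ∈ Ideal.span {X.presheaf.germ W x hx g})
  have hcd : c * d = 1 := sub_eq_zero.1 ((mem_nonZeroDivisors_iff.1 hg).2 _ (by
    rw [sub_mul, one_mul, mul_assoc, hd, hc, sub_self]))
  obtain ⟨V₁, hxV₁, c', hc'⟩ := X.presheaf.exists_germ_eq (x := x) c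
  let V₂ := V₁ ⊓ W
  have hxV₂ : x ∈ V₂ := ⟨hxV₁, hx⟩
  let c₂ := X.presheaf.map (homOfLE (inf_le_left : V₂ ≤ V₁)).op c'
  let g₂ := X.presheaf.map (homOfLE (inf_le_right : V₂ ≤ W)).op g
  let h₂ := X.presheaf.map (homOfLE (inf_le_right : V₂ ≤ W)).op h
  have hcx : X.presheaf.germ V₂ x hxV₂ c₂ = c := (X.presheaf.germ_res_apply _ x hxV₂ c').trans hc'
  obtain ⟨V₃, hxV₃, i, j, h3⟩ := X.presheaf.germ_eq x hxV₂ hxV₂ (c₂ * h₂) g₂ (by
    simp only [map_mul, hcx, g₂, h₂, X.presheaf.germ_res_apply, hc])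
  have hu : IsUnit (X.presheaf.germ V₂ x hxV₂ c₂) := by
    rw [hcx]; exact IsUnit.of_mul_eq_one d hcd
  refine ⟨V₃ ⊓ X.basicOpen c₂, fun y hy => (i.le hy.1).2, ⟨hxV₃, (X.mem_basicOpen c₂ x hxV₂).2 hu⟩, ?_⟩
  intro y hy
  have hyV₂ : y ∈ V₂ := i.le hy.1
  have h4 := congrArg (X.presheaf.germ V₃ y hy.1) h3
  simp only [X.presheaf.germ_res_apply, map_mul, g₂, h₂] at h4
  rw [← h4, Ideal.span_singleton_mul_left_unit ((X.mem_basicOpen c₂ y hyV₂).1 hy.2)]

variable [Flat f] [IsLocallyNoetherian X] [IsLocallyNoetherian Y]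

/-- Descent of effective Cartier ideals, controlled at the points of depth at most one. -/
theorem exists_descend [Surjective f] (hq : Topology.IsQuotientMap f)
    (hJ : BlowUp.IsEffCartierIdeal J)
    (H : ∀ y : Y, LocCoh.depth (Y.presheaf.stalk y) (Y.presheaf.stalk y) ≤ 1 →
      ∃ L : Ideal (Y.presheaf.stalk y), Controls f J y L) :
    ∃ I : Y.IdealSheafData, BlowUp.IsEffCartierIdeal I ∧ I.comap f = J := by
  classical
  let L : ∀ y : Y, Ideal (Y.presheaf.stalk y) := fun y =>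
    if hy : LocCoh.depth (Y.presheaf.stalk y) (Y.presheaf.stalk y) ≤ 1 then (H y hy).choose else ⊤
  have hL : ∀ y, LocCoh.depth (Y.presheaf.stalk y) (Y.presheaf.stalk y) ≤ 1 → Controls f J y (L y) := by
    intro y hy
    simp only [L, dif_pos hy]
    exact (H y hy).choose_spec
  let S : ∀ y : Y, Ideal (Y.presheaf.stalk y) := fun y => ⨅ (y' : Y) (h : y' ⤳ y)
    (_ : LocCoh.depth (Y.presheaf.stalk y') (Y.presheaf.stalk y') ≤ 1),
      (L y').comap (Y.presheaf.stalkSpecializes h).hom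
  have hS : ∀ x : X, (IntMult.stalkIdeal J x).comap (f.stalkMap x).hom = S (f x) := by
    intro x
    ext a
    rw [mem_comap_iff f J hJ x L hL a]
    simp only [S, Submodule.mem_iInf, Ideal.mem_comap]
  have hgen : ∀ x : X, ∃ t, t ∈ nonZeroDivisors (Y.presheaf.stalk (f x)) ∧ S (f x) = Ideal.span {t} ∧
      IntMult.stalkIdeal J x = (Ideal.span {t}).map (f.stalkMap x).hom := by
    intro x
    obtain ⟨t, ht, h1, h2⟩ := exists_base_gen f J hJ H x
    exact ⟨t, ht, (hS x).symm.trans h1, h2⟩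
  have hmap : ∀ x : X, IntMult.stalkIdeal J x = (S (f x)).map (f.stalkMap x).hom := fun x => by
    obtain ⟨t, -, h1, h2⟩ := hgen x
    rw [h1, h2]
  have hloc : ∀ y : Y, ∃ (V : Y.Opens) (γ : Γ(Y, V)), y ∈ V ∧
      ∀ (z : Y) (hz : z ∈ V), S z = Ideal.span {Y.presheaf.germ V z hz γ} := by
    intro y
    obtain ⟨x, rfl⟩ := f.surjective y
    obtain ⟨t, -, htS, -⟩ := hgen x
    obtain ⟨U, hyU, γ, hγ⟩ := Y.presheaf.exists_germ_eq (x := f x) t
    let G : Set Y := {z | ∃ hz : z ∈ U, S z = Ideal.span {Y.presheaf.germ U z hz γ}}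
    have hG : IsOpen G := by
      rw [← hq.isOpen_preimage, isOpen_iff_forall_mem_open]
      intro w hwG
      obtain ⟨hwU, hwS⟩ := hwG
      obtain ⟨W, hwW, hWle, b, hb, hJW⟩ := H29Blow.exists_gen hJ (W := f ⁻¹ᵁ U) hwU
      let γ' : Γ(X, W.1) := f.appLE U W.1 hWle γ
      have hγ' : ∀ (z : X) (hz : z ∈ W.1), X.presheaf.germ W.1 z hz γ' =
          f.stalkMap z (Y.presheaf.germ U (f z) (hWle hz) γ) := by
        intro z hz
        rw [Scheme.Hom.germ_stalkMap_apply]
        exact X.presheaf.germ_res_apply _ z hz _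
      have hstalk : ∀ (z : X) (hz : z ∈ W.1), IntMult.stalkIdeal J z = Ideal.span {X.presheaf.germ W.1 z hz b} := by
        intro z hz
        rw [H29Ref.stalkIdeal_eq _ z W hz, hJW, Ideal.map_span, Set.image_singleton]
      have hbw : X.presheaf.germ W.1 w hwW b ∈ nonZeroDivisors (X.presheaf.stalk w) := by
        letI := TopCat.Presheaf.algebra_section_stalk X.presheaf (⟨w, hwW⟩ : W.1)
        haveI := W.2.isLocalization_stalk ⟨w, hwW⟩
        exact IsLocalization.map_nonZeroDivisors_le (W.2.primeIdealOf ⟨w, hwW⟩).asIdeal.primeCompl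
          (X.presheaf.stalk w) ⟨b, hb, rfl⟩
      obtain ⟨O, hO, hwO, hOeq⟩ := exists_nhd_span_eq b γ' w hwW hbw (by
        rw [hγ' w hwW, ← hstalk w hwW, hmap w, hwS, Ideal.map_span, Set.image_singleton])
      refine ⟨O, fun z hz => ?_, O.2, hwO⟩
      refine ⟨hWle (hO hz), ?_⟩
      rw [← hS z, hstalk z (hO hz), hOeq z hz, hγ' z (hO hz)]
      have := comap_map_stalkMap f z (Ideal.span {Y.presheaf.germ U (f z) (hWle (hO hz)) γ})
      rwa [Ideal.map_span, Set.image_singleton] at this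
    refine ⟨⟨G, hG⟩, Y.presheaf.map (homOfLE (fun z hz => hz.1 : (⟨G, hG⟩ : Y.Opens) ≤ U)).op γ,
      ⟨hyU, by rw [hγ]; exact htS⟩, fun z hz => ?_⟩
    rw [Y.presheaf.germ_res_apply]
    exact hz.2
  obtain ⟨I, hI⟩ := H11Mero.exists_idealSheaf_of_stalks S hloc
  -- the generators on affine opens
  have hIgen : ∀ y : Y, ∃ U : Y.affineOpens, y ∈ U.1 ∧ ∃ g : Γ(Y, U.1), g ∈ nonZeroDivisors Γ(Y, U.1) ∧
      I.ideal U = Ideal.span {g} ∧
      ∀ (z : Y) (hz : z ∈ U.1), S z = Ideal.span {Y.presheaf.germ U.1 z hz g} := by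
    intro y
    obtain ⟨V, γ, hyV, hV⟩ := hloc y
    obtain ⟨U, hU, hyU, hUV⟩ := exists_isAffineOpen_mem_and_subset hyV
    let g := Y.presheaf.map (homOfLE hUV).op γ
    have hg : ∀ (z : Y) (hz : z ∈ U), S z = Ideal.span {Y.presheaf.germ U z hz g} := fun z hz => by
      rw [hV z (hUV hz)]
      exact congrArg (fun a => Ideal.span {a}) (Y.presheaf.germ_res_apply _ z hz γ).symm
    have hnzd : ∀ (z : Y) (hz : z ∈ U), Y.presheaf.germ U z hz g ∈ nonZeroDivisors (Y.presheaf.stalk z) := by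
      intro z hz
      obtain ⟨x, rfl⟩ := f.surjective z
      obtain ⟨t, ht, htS, -⟩ := hgen x
      obtain ⟨c, hc⟩ := Ideal.mem_span_singleton'.1
        ((htS.symm.trans (hg _ hz)).le (Ideal.mem_span_singleton_self t))
      rw [← hc] at ht
      exact (mul_mem_nonZeroDivisors.1 ht).2
    refine ⟨⟨U, hU⟩, hyU, g, mem_nonZeroDivisors_iff_right.2 fun a ha => ?_, ?_, hg⟩
    · refine TopCat.Presheaf.section_ext Y.sheaf U _ _ fun z hz => ?_
      have h1 := congrArg (Y.presheaf.germ U z hz) ha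
      rw [map_mul, map_zero] at h1
      refine Eq.trans ?_ (map_zero (Y.presheaf.germ U z hz).hom).symm
      exact (mem_nonZeroDivisors_iff_right.1 (hnzd z hz)) _ h1
    · refine le_antisymm (fun a ha => ?_) ((Ideal.span_singleton_le_iff_mem _).2 ?_)
      · rw [hU.mem_ideal_iff]
        intro z hz
        rw [Ideal.map_span, Set.image_singleton, ← hg z hz]
        exact (hI ⟨U, hU⟩ a).1 ha z hz
      · exact (hI ⟨U, hU⟩ g).2 fun z hz => (hg z hz).symm ▸ Ideal.mem_span_singleton_self _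
  refine ⟨I, fun y => ?_, ?_⟩
  · obtain ⟨U, hy, g, hg, hIU, -⟩ := hIgen y
    exact ⟨U, hy, g, hg, hIU⟩
  have hIS : ∀ y, IntMult.stalkIdeal I y = S y := fun y => by
    obtain ⟨U, hy, g, -, hIU, hg⟩ := hIgen y
    rw [H29Ref.stalkIdeal_eq _ y U hy, hIU, Ideal.map_span, Set.image_singleton, hg y hy]
  have hst : ∀ (x : X) (V : X.affineOpens) (hx : x ∈ V.1),
      H28Vert.stalkId (I.comap f) V hx = H28Vert.stalkId J V hx := by
    intro x V hx
    show (((I.comap f).ideal V).map _) = (J.ideal V).map _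
    rw [← H29Ref.stalkIdeal_eq _ x V hx, ← H29Ref.stalkIdeal_eq _ x V hx,
      H3CAlg.DiagStalk.stalkIdeal_comap, hIS, hmap]
  exact le_antisymm (H28Vert.le_of_stalk _ _ fun x V hx => (hst x V hx).le)
    (H28Vert.le_of_stalk _ _ fun x V hx => (hst x V hx).ge)

/-- Local descent gives control. -/
theorem controls_of_local (y : Y) (I₁ : (Spec (Y.presheaf.stalk y)).IdealSheafData)
    (h : I₁.comap (pullback.snd f (Y.fromSpecStalk y)) = J.comap (pullback.fst f (Y.fromSpecStalk y))) :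
    ∃ L, Controls f J y L := by
  let j := Y.fromSpecStalk y
  haveI : Flat j := H22Alg.flat_fromSpecStalk Y y
  let c : Spec (Y.presheaf.stalk y) := closedPoint (Y.presheaf.stalk y)
  have hjc : j c = y := Scheme.fromSpecStalk_closedPoint
  have hbij : ∀ s : Spec (Y.presheaf.stalk y), Function.Bijective (j.stalkMap s).hom := fun s =>
    H8Props.bijective_stalkMap_of_flat j s (Flat.stalkMap j s)
  let L' := (IntMult.stalkIdeal I₁ c).comap (j.stalkMap c).hom
  let τ := Y.presheaf.stalkSpecializes (hjc.symm ▸ specializes_rfl : y ⤳ j c)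
  refine ⟨L'.map τ.hom, fun x hx => ?_⟩
  have hxr : f x ∈ Set.range j := by rw [Scheme.range_fromSpecStalk]; exact hx
  obtain ⟨z, rfl⟩ : x ∈ Set.range (pullback.fst f j) := by rw [Scheme.Pullback.range_fst]; exact hxr
  set p := pullback.fst f j with hp
  set q := pullback.snd f j with hqdef
  have hz : q z ⤳ c := specializes_closedPoint _
  have hpm : Function.Bijective (p.stalkMap z).hom := by
    haveI : IsPreimmersion p := MorphismProperty.pullback_fst _ _ inferInstance
    haveI : Flat p := MorphismProperty.pullback_fst _ _ inferInstance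
    exact H8Props.bijective_stalkMap_of_flat p z (Flat.stalkMap p z)
  have e1 : (IntMult.stalkIdeal J (p z)).map (p.stalkMap z).hom = (IntMult.stalkIdeal I₁ (q z)).map (q.stalkMap z).hom := by
    rw [← H3CAlg.DiagStalk.stalkIdeal_comap, ← H3CAlg.DiagStalk.stalkIdeal_comap, h]
  have e2 : IntMult.stalkIdeal I₁ (q z) =
      L'.map (j.stalkMap c ≫ (Spec (Y.presheaf.stalk y)).presheaf.stalkSpecializes hz).hom := by
    rw [CommRingCat.hom_comp, ← Ideal.map_map, Ideal.map_comap_of_surjective _ (hbij c).2,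
      ← H29Ref.stalkIdeal_specializes]
  rw [e2, Ideal.map_map, ← CommRingCat.hom_comp] at e1
  refine Function.LeftInverse.injective (g := Ideal.comap (p.stalkMap z).hom)
    (f := Ideal.map (p.stalkMap z).hom)
    (fun K => Ideal.comap_map_of_bijective (p.stalkMap z).hom hpm) ?_
  refine e1.trans ?_
  rw [Ideal.map_map, Ideal.map_map, ← CommRingCat.hom_comp, ← CommRingCat.hom_comp]
  congr 2
  rw [← Scheme.Hom.stalkSpecializes_stalkMap j (q z) c hz]
  simp only [τ, Category.assoc]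
  rw [← Scheme.Hom.stalkMap_comp, ← Scheme.Hom.stalkMap_comp, ← Category.assoc (f := Y.presheaf.stalkSpecializes _),
    TopCat.Presheaf.stalkSpecializes_comp]
  rw [Scheme.Hom.stalkMap_congr_hom (q ≫ j) (p ≫ f) pullback.condition.symm z]
  simp
  rfl

end Groth.Agent.H7CDiv
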