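import Groth.Agent.H7CDiv.Normal

/-!
The two descent criteria for effective Cartier divisors.
-/

set_option autoImplicit false
set_option linter.style.haveILetI false
universe u

open AlgebraicGeometry CategoryTheory CategoryTheory.Limits TopologicalSpace IsLocalRing

namespace Groth.Agent.H7CDiv

theorem isQuotientMap_of_qc_or_open {X Y : Scheme.{u}} (f : X ⟶ Y) [Flat f] [Surjective f]
    (hf : QuasiCompact f ∨ IsOpenMap f) : Topology.IsQuotientMap f := by
  rcases hf with h | h
  · exact Flat.isQuotientMap_of_surjective f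
  · exact h.isQuotientMap f.continuous f.surjective

theorem descends_iff_local {X Y : Scheme.{u}} [IsLocallyNoetherian X] [IsLocallyNoetherian Y]
    (f : X ⟶ Y) [Flat f] [Surjective f] (hf : QuasiCompact f ∨ IsOpenMap f)
    (J : X.IdealSheafData) (hJ : BlowUp.IsEffCartierIdeal J) :
    (∃ I : Y.IdealSheafData, BlowUp.IsEffCartierIdeal I ∧ I.comap f = J) ↔
      ∀ y : Y, LocCoh.depth (Y.presheaf.stalk y) (Y.presheaf.stalk y) ≤ 1 →
        ∃ I₁ : (Spec (Y.presheaf.stalk y)).IdealSheafData, BlowUp.IsEffCartierIdeal I₁ ∧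
          I₁.comap (pullback.snd f (Y.fromSpecStalk y)) = J.comap (pullback.fst f (Y.fromSpecStalk y)) := by
  constructor
  · rintro ⟨I, hI, rfl⟩ y -
    haveI := H22Alg.flat_fromSpecStalk Y y
    refine ⟨I.comap (Y.fromSpecStalk y), H29Blow.isEffCartierIdeal_comap_of_flat hI _, ?_⟩
    rw [← Scheme.IdealSheafData.comap_comp, ← Scheme.IdealSheafData.comap_comp, pullback.condition]
  · intro h
    refine exists_descend f J (isQuotientMap_of_qc_or_open f hf) hJ fun y hy => ?_
    obtain ⟨I₁, -, h₁⟩ := h y hy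
    exact controls_of_local f J y I₁ h₁

theorem descends_iff_trivial {X Y : Scheme.{u}} [IsLocallyNoetherian X] [IsLocallyNoetherian Y]
    (f : X ⟶ Y) [Flat f] [Surjective f] (hf : QuasiCompact f ∨ IsOpenMap f) (hY : Pi1.IsNormalScheme Y)
    (hfib : ∀ y : Y, ringKrullDim (Y.presheaf.stalk y) = 1 → IsIntegral (f.fiber y))
    (J : X.IdealSheafData) (hJ : BlowUp.IsEffCartierIdeal J) :
    (∃ I : Y.IdealSheafData, BlowUp.IsEffCartierIdeal I ∧ I.comap f = J) ↔
      ∀ η : Y, (∀ z : Y, z ⤳ η → z = η) → J.comap (f.fiberι η) = ⊤ := by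
  constructor
  · rintro ⟨I, hI, rfl⟩ η hη
    refine comap_fiberι_eq_top f _ η fun x hx => ?_
    subst hx
    obtain ⟨b, hb, hIb⟩ := exists_gen_stalkIdeal hI (f x)
    have hF := isField_of_isMax hY hη
    have hu : IsUnit b := by
      letI := hF.toField
      exact (nonZeroDivisors.ne_zero hb).isUnit
    rw [H3CAlg.DiagStalk.stalkIdeal_comap, hIb, Ideal.span_singleton_eq_top.2 hu, Ideal.map_top]
  · intro h
    exact exists_descend f J (isQuotientMap_of_qc_or_open f hf) hJ
      (exists_controls_of_normal f hY hfib J hJ h)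

end Groth.Agent.H7CDiv
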