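import Groth.Agent.H7CDiv.Descend
import Groth.Agent.H10Coh.FibreLift.MonoEpi
import Groth.Agent.H1CAlg.Serre
import Groth.Prelude.Def_Pi1

/-!
Effective Cartier divisors trivial on the maximal fibres, over a normal base.
-/

set_option autoImplicit false
set_option linter.style.haveILetI false
universe u

open AlgebraicGeometry CategoryTheory CategoryTheory.Limits TopologicalSpace IsLocalRing

namespace Groth.Agent.H7CDiv

/-- A regular element dividing a power of a prime regular element generates a power of it. -/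
theorem span_eq_pow_of_dvd {B : Type u} [CommRing B] {π : B} (hπ : π ∈ nonZeroDivisors B)
    (hP : (Ideal.span {π}).IsPrime) :
    ∀ (n : ℕ) (b c : B), b ∈ nonZeroDivisors B → π ^ n = b * c →
      ∃ m : ℕ, Ideal.span {b} = Ideal.span {π ^ m} := by
  intro n
  induction n with
  | zero =>
    intro b c _ h
    refine ⟨0, ?_⟩
    rw [pow_zero] at h ⊢
    rw [Ideal.span_singleton_eq_top.2 (IsUnit.of_mul_eq_one c h.symm), Ideal.span_singleton_one]
  | succ n ih =>
    intro b c hb h
    have hmem : b * c ∈ Ideal.span {π} := h ▸ Ideal.mem_span_singleton.2 (dvd_pow_self π n.succ_ne_zero)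
    have hcancel : ∀ x y : B, π * x = π * y → x = y := fun x y e => by
      rw [← sub_eq_zero]
      refine (mem_nonZeroDivisors_iff.1 hπ).1 _ ?_
      rw [mul_sub, e, sub_self]
    rcases hP.mem_or_mem hmem with hbπ | hcπ
    · obtain ⟨b', rfl⟩ := Ideal.mem_span_singleton.1 hbπ
      obtain ⟨m, hm⟩ := ih b' c (mul_mem_nonZeroDivisors.1 hb).2
        (hcancel _ _ (by rw [← pow_succ', h, mul_assoc]))
      refine ⟨m + 1, ?_⟩
      rw [pow_succ', ← Ideal.span_singleton_mul_span_singleton, hm, Ideal.span_singleton_mul_span_singleton]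
    · obtain ⟨c', rfl⟩ := Ideal.mem_span_singleton.1 hcπ
      exact ih b c' hb (hcancel _ _ (by rw [← pow_succ', h]; ring))

theorem pow_span_injective {B : Type u} [CommRing B] {π : B} (hπ : π ∈ nonZeroDivisors B)
    (hu : ¬ IsUnit π) {m n : ℕ} (h : Ideal.span {π ^ m} = Ideal.span {π ^ n}) : m = n := by
  by_contra hne
  wlog hlt : m < n generalizing m n
  · exact this h.symm (Ne.symm hne) (by omega)
  obtain ⟨c, hc⟩ := Ideal.mem_span_singleton'.1 (h.le (Ideal.mem_span_singleton_self (π ^ m)))
  obtain ⟨d, rfl⟩ := Nat.exists_eq_add_of_lt hlt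
  have h1 : (c * π ^ (d + 1) - 1) * π ^ m = 0 := by
    rw [sub_mul, one_mul, mul_assoc, ← pow_add, show d + 1 + m = m + d + 1 by omega, hc, sub_self]
  have h2 : c * π ^ (d + 1) = 1 :=
    sub_eq_zero.1 ((mem_nonZeroDivisors_iff.1 (pow_mem hπ m)).2 _ h1)
  exact hu (IsUnit.of_mul_eq_one (c * π ^ d) (by rw [← h2]; ring))

variable {X Y : Scheme.{u}} (f : X ⟶ Y) [IsLocallyNoetherian X] [IsLocallyNoetherian Y]

omit [IsLocallyNoetherian X] in
/-- In a normal scheme the points of depth at most one have dimension at most one. -/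
theorem ringKrullDim_le_one_of_depth (hY : Pi1.IsNormalScheme Y) (y : Y)
    (h : LocCoh.depth (Y.presheaf.stalk y) (Y.presheaf.stalk y) ≤ 1) :
    ringKrullDim (Y.presheaf.stalk y) < 2 := by
  haveI := (hY y).1
  haveI := (hY y).2
  by_contra hc
  have := (H1CAlg.depth_ge_two_of_isIntegrallyClosed (not_lt.1 hc)).trans h
  exact absurd this (by decide)

omit [IsLocallyNoetherian X] in
theorem eq_of_specializes_of_isField {y z : Y} (hy : IsField (Y.presheaf.stalk y)) (h : z ⤳ y) : z = y := by
  have h1 : primeOf h = primeOf (specializes_refl y) := by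
    refine PrimeSpectrum.ext ?_
    letI := hy.toField
    rcases Ideal.eq_bot_or_top (primeOf h).asIdeal with h1 | h1
    · rcases Ideal.eq_bot_or_top (primeOf (specializes_refl y)).asIdeal with h2 | h2
      · rw [h1, h2]
      · exact absurd h2 (primeOf (specializes_refl y)).2.ne_top
    · exact absurd h1 (primeOf h).2.ne_top
  rw [← fromSpecStalk_primeOf h, h1, fromSpecStalk_primeOf]

omit [IsLocallyNoetherian X] in
/-- Maximal points of a normal scheme have fields as stalks. -/
theorem isField_of_isMax (hY : Pi1.IsNormalScheme Y) {η : Y} (hη : ∀ z : Y, z ⤳ η → z = η) :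
    IsField (Y.presheaf.stalk η) := by
  haveI := (hY η).1
  by_contra hc
  have hne := (Ring.not_isField_iff_exists_prime).1 hc
  obtain ⟨p, hp0, hp⟩ := hne
  let b : PrimeSpectrum (Y.presheaf.stalk η) := ⟨⊥, Ideal.isPrime_bot⟩
  have hb := hη _ (fromSpecStalk_specializes b)
  have hm := hη _ (fromSpecStalk_specializes ⟨p, hp⟩)
  exact hp0 (congrArg PrimeSpectrum.asIdeal
    ((Y.fromSpecStalk η).isEmbedding.injective (hm.trans hb.symm)))

omit [IsLocallyNoetherian Y] in
/-- Triviality on a fibre, read on the stalks. -/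
theorem stalkIdeal_eq_top_of_fibre (J : X.IdealSheafData) (η : Y) (h : J.comap (f.fiberι η) = ⊤)
    (x : X) (hx : f x = η) : IntMult.stalkIdeal J x = ⊤ := by
  obtain ⟨z, rfl⟩ : x ∈ Set.range (f.fiberι η) := by rw [f.range_fiberι]; exact hx
  have h1 := H3CAlg.DiagStalk.stalkIdeal_comap (f.fiberι η) J z
  rw [h, show (⊤ : (f.fiber η).IdealSheafData) = 1 from rfl, H29Ref.stalkIdeal_one] at h1
  by_contra hc
  refine (maximalIdeal.isMaximal _).ne_top (top_le_iff.1 (h1.le.trans ?_))
  rw [Ideal.map_le_iff_le_comap, maximalIdeal_comap]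
  exact IsLocalRing.le_maximalIdeal hc

omit [IsLocallyNoetherian X] [IsLocallyNoetherian Y] in
theorem comap_fiberι_eq_top (J : X.IdealSheafData) (η : Y)
    (h : ∀ x : X, f x = η → IntMult.stalkIdeal J x = ⊤) : J.comap (f.fiberι η) = ⊤ := by
  refine (Scheme.IdealSheafData.support_eq_bot_iff _).1 (eq_bot_iff.2 fun z hz => ?_)
  have hz' : f.fiberι η z ∈ Set.range (f.fiberι η) := ⟨z, rfl⟩
  rw [f.range_fiberι] at hz'
  have h1 := H3CAlg.DiagStalk.stalkIdeal_comap (f.fiberι η) J z
  rw [h _ hz', Ideal.map_top, H29Ref.stalkIdeal_eq_top_iff] at h1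
  exact absurd hz h1

variable [Flat f]

/-- Over a normal base with integral fibres in codimension one, triviality on the maximal fibres gives
control at the points of depth at most one. -/
theorem exists_controls_of_normal (hY : Pi1.IsNormalScheme Y)
    (hfib : ∀ y : Y, ringKrullDim (Y.presheaf.stalk y) = 1 → IsIntegral (f.fiber y))
    (J : X.IdealSheafData) (hJ : BlowUp.IsEffCartierIdeal J)
    (hη : ∀ η : Y, (∀ z : Y, z ⤳ η → z = η) → J.comap (f.fiberι η) = ⊤)
    (y : Y) (hy : LocCoh.depth (Y.presheaf.stalk y) (Y.presheaf.stalk y) ≤ 1) :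
    ∃ L, Controls f J y L := by
  haveI := (hY y).1
  haveI := (hY y).2
  have hdim := ringKrullDim_le_one_of_depth hY y hy
  have hmax : ∀ (x : X), (∀ z : Y, z ⤳ f x → z = f x) → IntMult.stalkIdeal J x = ⊤ := fun x hz =>
    stalkIdeal_eq_top_of_fibre f J _ (hη _ hz) x rfl
  by_cases hF : IsField (Y.presheaf.stalk y)
  · refine ⟨⊤, fun x hx => ?_⟩
    rw [Ideal.map_top]
    obtain rfl := eq_of_specializes_of_isField hF hx
    exact hmax x fun z hz => eq_of_specializes_of_isField hF hz
  have hmaxp : ∀ P : Ideal (Y.presheaf.stalk y), P ≠ ⊥ → P.IsPrime → P = maximalIdeal _ := by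
    intro P hP0 hP
    by_contra hne
    let c : LTSeries (PrimeSpectrum (Y.presheaf.stalk y)) :=
      ((RelSeries.singleton _ ⟨⊥, Ideal.isPrime_bot⟩).snoc ⟨P, hP⟩
        (bot_lt_iff_ne_bot.2 hP0 : (⊥ : Ideal _) < P)).snoc (closedPoint _) (by
          rw [RelSeries.last_snoc]
          exact lt_of_le_of_ne (IsLocalRing.le_maximalIdeal hP.ne_top) hne)
    have h2 : (2 : WithBot ℕ∞) ≤ ringKrullDim (Y.presheaf.stalk y) := Order.le_krullDim_iff.mpr ⟨c, rfl⟩
    exact absurd hdim (not_lt.2 h2)
  haveI : IsDiscreteValuationRing (Y.presheaf.stalk y) :=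
    ((IsDiscreteValuationRing.TFAE (Y.presheaf.stalk y) hF).out 3 0 :).1
      ⟨inferInstance, maximalIdeal _, ⟨fun h0 => hF (isField_iff_maximalIdeal_eq.2 h0), inferInstance⟩,
        fun P hP => hmaxp P hP.1 hP.2⟩
  have h1 : ringKrullDim (Y.presheaf.stalk y) = 1 :=
    IsPrincipalIdealRing.ringKrullDim_eq_one _ hF
  obtain ⟨π, hπ⟩ := IsDiscreteValuationRing.exists_irreducible (R := Y.presheaf.stalk y)
  have hm : maximalIdeal (Y.presheaf.stalk y) = Ideal.span {π} :=
    (IsDiscreteValuationRing.irreducible_iff_uniformizer _).1 hπ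
  have hgen : ∀ z : Y, z ⤳ y → z ≠ y → ∀ w : Y, w ⤳ z → w = z := by
    intro z hz hne w hw
    have key : ∀ v : Y, ∀ hv : v ⤳ y, v ≠ y → (primeOf hv).asIdeal = ⊥ := by
      intro v hv hne'
      rcases eq_or_ne (primeOf hv).asIdeal ⊥ with h0 | h0
      · exact h0
      · refine absurd ?_ hne'
        have : primeOf hv = closedPoint (Y.presheaf.stalk y) :=
          PrimeSpectrum.ext (IsLocalRing.eq_maximalIdeal ((primeOf hv).2.isMaximal h0))
        rw [← fromSpecStalk_primeOf hv, this]
        exact Scheme.fromSpecStalk_closedPoint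
    have hwy : w ≠ y := fun e => hne (hz.antisymm (e ▸ hw)).eq
    have : primeOf (hw.trans hz) = primeOf hz :=
      PrimeSpectrum.ext ((key _ _ hwy).trans (key _ hz hne).symm)
    rw [← fromSpecStalk_primeOf (hw.trans hz), this, fromSpecStalk_primeOf]
  -- the exponent at each point of the fibre
  haveI := hfib y h1
  let ξ : X := f.fiberι y (genericPoint (f.fiber y))
  let πx : ∀ (x : X) (hx : f x ⤳ y), X.presheaf.stalk x := fun x hx =>
    (Y.presheaf.stalkSpecializes hx ≫ f.stalkMap x) π
  have hπnzd : ∀ (x : X) (hx : f x ⤳ y), πx x hx ∈ nonZeroDivisors (X.presheaf.stalk x) := by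
    intro x hx
    letI := (f.stalkMap x).hom.toAlgebra
    haveI : Module.Flat (Y.presheaf.stalk (f x)) (X.presheaf.stalk x) := Flat.stalkMap f x
    letI := (Y.presheaf.stalkSpecializes hx).hom.toAlgebra
    haveI := isLocalization_stalkSpecializes hx
    refine H29Blow.mem_nonZeroDivisors_map_of_flat (φ := (Y.presheaf.stalkSpecializes hx ≫ f.stalkMap x).hom)
      ?_ (mem_nonZeroDivisors_of_ne_zero hπ.ne_zero)
    rw [CommRingCat.hom_comp]
    exact RingHom.Flat.comp (RingHom.flat_algebraMap_iff.2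
      (IsLocalization.flat (Y.presheaf.stalk (f x)) (primeOf hx).asIdeal.primeCompl)) (Flat.stalkMap f x)
  have hprime : ∀ (x : X) (hx : f x = y), (Ideal.span {πx x (specializes_of_eq hx)}).IsPrime := by
    intro x hx
    obtain ⟨z, rfl⟩ : x ∈ Set.range (f.fiberι y) := by rw [f.range_fiberι]; exact hx
    haveI : IsDomain ((f.fiber y).presheaf.stalk z) := inferInstance
    have hk := H10Coh.FibreLift.ker_stalkMap_fiberι f y z
    have hm' : maximalIdeal (Y.presheaf.stalk (f (f.fiberι y z))) =
        (maximalIdeal (Y.presheaf.stalk y)).map (Y.presheaf.stalkSpecializes (specializes_of_eq hx)).hom := by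
      generalize f (f.fiberι y z) = w at hx ⊢
      subst hx
      simp
    rw [hm', hm, Ideal.map_map, Ideal.map_span, Set.image_singleton] at hk
    rw [show Ideal.span {πx _ (specializes_of_eq hx)} = RingHom.ker ((f.fiberι y).stalkMap z).hom from hk.symm]
    exact RingHom.ker_isPrime _
  have hexp : ∀ (x : X) (hx : f x = y), ∃ m : ℕ,
      IntMult.stalkIdeal J x = Ideal.span {πx x (specializes_of_eq hx) ^ m} := by
    intro x hx
    obtain ⟨b, hb, hJb⟩ := exists_gen_stalkIdeal hJ x
    have hrad : πx x (specializes_of_eq hx) ∈ (Ideal.span {b}).radical := by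
      rw [Ideal.radical_eq_sInf, Submodule.mem_sInf]
      rintro Q ⟨hbQ, hQ⟩
      by_contra hπQ
      let q : PrimeSpectrum (X.presheaf.stalk x) := ⟨Q, hQ⟩
      have hsp := fromSpecStalk_specializes q
      have hq := primeOf_fromSpecStalk q hsp
      have hsy : f (X.fromSpecStalk x q) ⤳ y := (hsp.map f.continuous).trans (specializes_of_eq hx)
      have hne : f (X.fromSpecStalk x q) ≠ y := by
        intro e
        apply hπQ
        have h2 : (primeOf (hsp.map f.continuous)).asIdeal = (primeOf (specializes_refl (f x))).asIdeal := by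
          have : ∀ (v : Y) (hv : v ⤳ f x), v = f x → primeOf hv = primeOf (specializes_refl (f x)) := by
            rintro _ _ rfl; rfl
          exact congrArg PrimeSpectrum.asIdeal (this _ _ (e.trans hx.symm))
        rw [show Q = (primeOf hsp).asIdeal from (congrArg PrimeSpectrum.asIdeal hq).symm]
        show f.stalkMap x (Y.presheaf.stalkSpecializes (specializes_of_eq hx) π) ∈ (primeOf hsp).asIdeal
        rw [← Ideal.mem_comap, primeOf_comap, h2]
        show Y.presheaf.stalkSpecializes (specializes_refl (f x)) (Y.presheaf.stalkSpecializes (specializes_of_eq hx) π) ∈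
          maximalIdeal _
        rw [← CommRingCat.comp_apply, TopCat.Presheaf.stalkSpecializes_comp]
        have hw : ∀ (w : Y) (_ : w = y) (hs : w ⤳ y), Y.presheaf.stalkSpecializes hs π ∈ maximalIdeal _ := by
          rintro w rfl hs
          simp [hm, Ideal.mem_span_singleton_self]
        exact hw _ hx _
      have htop := hmax _ (hgen _ hsy hne)
      rw [H29Ref.stalkIdeal_specializes J hsp, hJb] at htop
      letI := (X.presheaf.stalkSpecializes hsp).hom.toAlgebra
      haveI := isLocalization_stalkSpecializes hsp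
      obtain ⟨s, hs, hsb⟩ := (IsLocalization.algebraMap_mem_map_algebraMap_iff
        (primeOf hsp).asIdeal.primeCompl (X.presheaf.stalk (X.fromSpecStalk x q)) (Ideal.span {b}) 1).1
        (by rw [map_one]; exact htop ▸ Submodule.mem_top)
      rw [mul_one] at hsb
      exact hs (hq.symm ▸ hbQ hsb)
    obtain ⟨n, hn⟩ := hrad
    obtain ⟨c, hc⟩ := Ideal.mem_span_singleton'.1 hn
    obtain ⟨m, hm'⟩ := span_eq_pow_of_dvd (hπnzd x (specializes_of_eq hx)) (hprime x hx) n b c hb
      (by rw [← hc, mul_comm])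
    exact ⟨m, hJb.trans hm'⟩
  have hfξ : f ξ = y := by
    have : ξ ∈ Set.range (f.fiberι y) := ⟨_, rfl⟩
    rwa [f.range_fiberι] at this
  obtain ⟨m₀, hm₀⟩ := hexp ξ hfξ
  refine ⟨Ideal.span {π ^ m₀}, fun x hx => ?_⟩
  rw [Ideal.map_span, Set.image_singleton, map_pow]
  by_cases hxy : f x = y
  · obtain ⟨m, hmx⟩ := hexp x hxy
    obtain ⟨z, hz⟩ : x ∈ Set.range (f.fiberι y) := by rw [f.range_fiberι]; exact hxy
    have hξx : ξ ⤳ x := hz ▸ ((genericPoint_spec (f.fiber y)).specializes (Set.mem_univ z)).map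
      (f.fiberι y).continuous
    have h2 := congrArg (Ideal.map (X.presheaf.stalkSpecializes hξx).hom) hmx
    rw [← H29Ref.stalkIdeal_specializes, hm₀, Ideal.map_span, Set.image_singleton, map_pow] at h2
    have hπξ : X.presheaf.stalkSpecializes hξx (πx x (specializes_of_eq hxy)) = πx ξ (specializes_of_eq hfξ) := by
      show (Y.presheaf.stalkSpecializes _ ≫ f.stalkMap x ≫ X.presheaf.stalkSpecializes hξx) π = _
      rw [← Scheme.Hom.stalkSpecializes_stalkMap f ξ x hξx, ← Category.assoc,
        TopCat.Presheaf.stalkSpecializes_comp]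
    rw [hπξ] at h2
    have hu : ¬ IsUnit (πx ξ (specializes_of_eq hfξ)) := fun hu => (hprime ξ hfξ).ne_top
      (Ideal.span_singleton_eq_top.2 hu)
    rw [pow_span_injective (hπnzd ξ (specializes_of_eq hfξ)) hu h2, hmx]
  · rw [hmax x (hgen _ hx hxy), eq_comm, Ideal.span_singleton_eq_top]
    refine IsUnit.pow _ ?_
    refine (IsUnit.map (f.stalkMap x).hom ?_ : IsUnit (f.stalkMap x (Y.presheaf.stalkSpecializes hx π)))
    by_contra hu
    have hmem : π ∈ (primeOf hx).asIdeal := (mem_maximalIdeal _).2 hu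
    have hc : primeOf hx = closedPoint (Y.presheaf.stalk y) :=
      PrimeSpectrum.ext (IsLocalRing.eq_maximalIdeal ((primeOf hx).2.isMaximal fun h0 => by
        rw [h0, Ideal.mem_bot] at hmem; exact hπ.ne_zero hmem))
    exact hxy (by rw [← fromSpecStalk_primeOf hx, hc]; exact Scheme.fromSpecStalk_closedPoint)

end Groth.Agent.H7CDiv
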