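import Groth.Agent.H7CDiv.Main
import Groth.Agent.H7Lim.MaximalPoints

/-!
Effective Cartier divisors with uniform order along the fibres of codimension one.
-/

set_option autoImplicit false
set_option linter.style.haveILetI false
universe u

open AlgebraicGeometry CategoryTheory CategoryTheory.Limits TopologicalSpace IsLocalRing

namespace Groth.Agent.H7CDiv

variable {X Y : Scheme.{u}}

theorem isDiscreteValuationRing_stalk [IsLocallyNoetherian Y] (hY : Pi1.IsNormalScheme Y) (y : Y)
    (hdim : ringKrullDim (Y.presheaf.stalk y) < 2) (hF : ¬ IsField (Y.presheaf.stalk y)) :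
    haveI := (hY y).1
    IsDiscreteValuationRing (Y.presheaf.stalk y) := by
  haveI := (hY y).1
  haveI := (hY y).2
  have hmaxp : ∀ P : Ideal (Y.presheaf.stalk y), P ≠ ⊥ → P.IsPrime → P = maximalIdeal _ := by
    intro P hP0 hP
    by_contra hne
    let c : LTSeries (PrimeSpectrum (Y.presheaf.stalk y)) :=
      ((RelSeries.singleton _ ⟨⊥, Ideal.isPrime_bot⟩).snoc ⟨P, hP⟩
        (bot_lt_iff_ne_bot.2 hP0 : (⊥ : Ideal _) < P)).snoc (closedPoint _) (by
          rw [RelSeries.last_snoc]
          exact lt_of_le_of_ne (IsLocalRing.le_maximalIdeal hP.ne_top) hne)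
    have h2 : (2 : WithBot ℕ∞) ≤ ringKrullDim (Y.presheaf.stalk y) := Order.le_krullDim_iff.mpr ⟨c, rfl⟩
    exact absurd hdim (not_lt.2 h2)
  exact ((IsDiscreteValuationRing.TFAE (Y.presheaf.stalk y) hF).out 3 0 :).1
    ⟨inferInstance, maximalIdeal _, ⟨fun h0 => hF (isField_iff_maximalIdeal_eq.2 h0), inferInstance⟩,
      fun P hP => hmaxp P hP.1 hP.2⟩

theorem primeOf_eq_closedPoint [IsLocallyNoetherian Y] (hY : Pi1.IsNormalScheme Y) (y : Y)
    (hdim : ringKrullDim (Y.presheaf.stalk y) < 2) (hF : ¬ IsField (Y.presheaf.stalk y))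
    {z : Y} (hz : z ⤳ y) (h0 : (primeOf hz).asIdeal ≠ ⊥) : z = y := by
  haveI := (hY y).1
  haveI := isDiscreteValuationRing_stalk hY y hdim hF
  have : primeOf hz = closedPoint (Y.presheaf.stalk y) :=
    PrimeSpectrum.ext (IsLocalRing.eq_maximalIdeal ((primeOf hz).2.isMaximal h0))
  rw [← fromSpecStalk_primeOf hz, this]
  exact Scheme.fromSpecStalk_closedPoint

theorem isMax_of_ne [IsLocallyNoetherian Y] (hY : Pi1.IsNormalScheme Y) (y : Y)
    (hdim : ringKrullDim (Y.presheaf.stalk y) < 2) (hF : ¬ IsField (Y.presheaf.stalk y))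
    {z : Y} (hz : z ⤳ y) (hne : z ≠ y) : ∀ w : Y, w ⤳ z → w = z := by
  intro w hw
  have key : ∀ v : Y, ∀ hv : v ⤳ y, v ≠ y → (primeOf hv).asIdeal = ⊥ := fun v hv hne' =>
    by_contra fun h0 => hne' (primeOf_eq_closedPoint hY y hdim hF hv h0)
  have hwy : w ≠ y := fun e => hne (hz.antisymm (e ▸ hw)).eq
  have : primeOf (hw.trans hz) = primeOf hz :=
    PrimeSpectrum.ext ((key _ _ hwy).trans (key _ hz hne).symm)
  rw [← fromSpecStalk_primeOf (hw.trans hz), this, fromSpecStalk_primeOf]

theorem mem_nonZeroDivisors_image (f : X ⟶ Y) [Flat f] {y : Y} {t : Y.presheaf.stalk y}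
    (ht : t ∈ nonZeroDivisors (Y.presheaf.stalk y)) (x : X) (hx : f x ⤳ y) :
    (Y.presheaf.stalkSpecializes hx ≫ f.stalkMap x) t ∈ nonZeroDivisors (X.presheaf.stalk x) := by
  letI := (f.stalkMap x).hom.toAlgebra
  haveI : Module.Flat (Y.presheaf.stalk (f x)) (X.presheaf.stalk x) := Flat.stalkMap f x
  letI := (Y.presheaf.stalkSpecializes hx).hom.toAlgebra
  haveI := isLocalization_stalkSpecializes hx
  refine H29Blow.mem_nonZeroDivisors_map_of_flat (φ := (Y.presheaf.stalkSpecializes hx ≫ f.stalkMap x).hom)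
    ?_ ht
  rw [CommRingCat.hom_comp]
  exact RingHom.Flat.comp (RingHom.flat_algebraMap_iff.2
    (IsLocalization.flat (Y.presheaf.stalk (f x)) (primeOf hx).asIdeal.primeCompl)) (Flat.stalkMap f x)

/-- The ideal of the pullback to the spectrum of a local ring. -/
theorem ideal_comap_fromSpecStalk (J : X.IdealSheafData) (x : X) :
    (J.comap (X.fromSpecStalk x)).ideal ⟨⊤, isAffineOpen_top _⟩ =
      (IntMult.stalkIdeal J x).map (Scheme.ΓSpecIso (X.presheaf.stalk x)).inv.hom := by
  obtain ⟨U, hU, hxU, -⟩ := exists_isAffineOpen_mem_and_subset (x := x) (U := ⊤) trivial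
  have hle : (⊤ : (Spec (X.presheaf.stalk x)).Opens) ≤ X.fromSpecStalk x ⁻¹ᵁ U := fun q _ =>
    (fromSpecStalk_specializes q).mem_open U.2 hxU
  rw [H29Blow.ideal_comap J (X.fromSpecStalk x) ⟨U, hU⟩ ⟨⊤, isAffineOpen_top _⟩ hle,
    H29Ref.stalkIdeal_eq J x ⟨U, hU⟩ hxU, Ideal.map_map, ← CommRingCat.hom_comp]
  refine congrArg (fun φ => Ideal.map (CommRingCat.Hom.hom φ) (J.ideal ⟨U, hU⟩)) ?_
  rw [Scheme.Hom.appLE, Scheme.fromSpecStalk_app hxU, Category.assoc, Category.assoc,
    ← Functor.map_comp]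
  exact (congrArg _ ((congrArg _ ((congrArg _ (Subsingleton.elim _ (𝟙 _))).trans
    (CategoryTheory.Functor.map_id _ _))).trans (Category.comp_id _))).trans rfl

variable [IsLocallyNoetherian X] [IsLocallyNoetherian Y] (f : X ⟶ Y) [Flat f]

/-- Membership in a principal regular ideal is decided at depth at most one. -/
theorem mem_span_of_forall {x : X} {c : X.presheaf.stalk x}
    (hc : c ∈ nonZeroDivisors (X.presheaf.stalk x)) (r : X.presheaf.stalk x)
    (h : ∀ (x' : X) (hx : x' ⤳ x), c ∈ (primeOf hx).asIdeal →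
      LocCoh.depth (X.presheaf.stalk x') (X.presheaf.stalk x') ≤ 1 →
      X.presheaf.stalkSpecializes hx r ∈ Ideal.span {X.presheaf.stalkSpecializes hx c}) :
    r ∈ Ideal.span {c} := by
  by_contra hr
  obtain ⟨Q, hQ, hle⟩ := exists_le_isAssociatedPrime_of_isNoetherianRing (R := X.presheaf.stalk x)
    (Ideal.Quotient.mk (Ideal.span {c}) r) (fun e => hr (Ideal.Quotient.eq_zero_iff_mem.1 e))
  haveI := hQ.1
  let q : PrimeSpectrum (X.presheaf.stalk x) := ⟨Q, inferInstance⟩
  have hx := fromSpecStalk_specializes q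
  have hpq := primeOf_fromSpecStalk q hx
  have hq : (primeOf hx).asIdeal = Q := congrArg PrimeSpectrum.asIdeal hpq
  have hcQ : c ∈ Q := hle (Submodule.mem_colon_singleton.2 (by
    show c • Ideal.Quotient.mk (Ideal.span {c}) r ∈ (⊥ : Submodule (X.presheaf.stalk x) _)
    rw [Submodule.mem_bot]
    exact Ideal.Quotient.eq_zero_iff_mem.2 (Ideal.mul_mem_right _ _ (Ideal.mem_span_singleton_self c))))
  have hd := depth_le_one_of_associated hc q hQ
  rw [← hpq, ← depth_stalk_eq hx] at hd
  letI := (X.presheaf.stalkSpecializes hx).hom.toAlgebra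
  haveI := isLocalization_stalkSpecializes hx
  have h1 : algebraMap _ (X.presheaf.stalk (X.fromSpecStalk x q)) r ∈
      (Ideal.span {c}).map (algebraMap (X.presheaf.stalk x) (X.presheaf.stalk (X.fromSpecStalk x q))) := by
    rw [Ideal.map_span, Set.image_singleton]
    exact h _ hx (hq.symm ▸ hcQ) hd
  obtain ⟨s, hs, hsr⟩ := (IsLocalization.algebraMap_mem_map_algebraMap_iff (primeOf hx).asIdeal.primeCompl
    (X.presheaf.stalk (X.fromSpecStalk x q)) (Ideal.span {c}) r).1 h1
  refine hs (hq.symm ▸ hle (Submodule.mem_colon_singleton.2 ?_))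
  show s • Ideal.Quotient.mk (Ideal.span {c}) r ∈ (⊥ : Submodule (X.presheaf.stalk x) _)
  rw [Submodule.mem_bot]
  exact Ideal.Quotient.eq_zero_iff_mem.2 hsr

omit [Flat f] in
/-- A point of depth at most one of the fibre of a divisor is maximal in the fibre, when the fibre has no
embedded points. -/
theorem isMax_in_fibre (y : Y) (t : Y.presheaf.stalk y) (ht : maximalIdeal _ = Ideal.span {t})
    (hfib : ∀ z z' : ↥(f.fiber y),
      IsAssociatedPrime (maximalIdeal ((f.fiber y).presheaf.stalk z)) ((f.fiber y).presheaf.stalk z) →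
      IsAssociatedPrime (maximalIdeal ((f.fiber y).presheaf.stalk z')) ((f.fiber y).presheaf.stalk z') →
      z' ⤳ z → z' = z)
    (x : X) (hx : f x = y)
    (hreg : (Y.presheaf.stalkSpecializes (specializes_of_eq hx) ≫ f.stalkMap x) t ∈
      nonZeroDivisors (X.presheaf.stalk x))
    (hd : LocCoh.depth (X.presheaf.stalk x) (X.presheaf.stalk x) ≤ 1) :
    ∀ w : X, f w = y → w ⤳ x → w = x := by
  obtain ⟨z, rfl⟩ : x ∈ Set.range (f.fiberι y) := by rw [f.range_fiberι]; exact hx
  haveI : ∀ v : f.fiber y, IsNoetherianRing ((f.fiber y).presheaf.stalk v) := fun v =>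
    isNoetherianRing_of_surjective _ _ ((f.fiberι y).stalkMap v).hom ((f.fiberι y).stalkMap_surjective v)
  have hassmax : ∀ v : f.fiber y, H7Lim.IsMaxPoint v →
      IsAssociatedPrime (maximalIdeal ((f.fiber y).presheaf.stalk v)) ((f.fiber y).presheaf.stalk v) := by
    intro v hv
    obtain ⟨P, hP⟩ := associatedPrimes.nonempty ((f.fiber y).presheaf.stalk v) ((f.fiber y).presheaf.stalk v)
    have : (⟨P, hP.isPrime⟩ : PrimeSpectrum _) = closedPoint ((f.fiber y).presheaf.stalk v) :=
      ((f.fiber y).fromSpecStalk v).isEmbedding.injective ((hv _ (fromSpecStalk_specializes _)).trans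
        Scheme.fromSpecStalk_closedPoint.symm)
    exact (show P = maximalIdeal _ from congrArg PrimeSpectrum.asIdeal this) ▸ hP
  have hass : IsAssociatedPrime (maximalIdeal ((f.fiber y).presheaf.stalk z)) ((f.fiber y).presheaf.stalk z) := by
    letI := ((f.fiberι y).stalkMap z).hom.toAlgebra
    let B := X.presheaf.stalk (f.fiberι y z)
    let S := (f.fiber y).presheaf.stalk z
    have hs : Function.Surjective (algebraMap B S) := (f.fiberι y).stalkMap_surjective z
    let g : B := (Y.presheaf.stalkSpecializes (specializes_of_eq hx) ≫ f.stalkMap (f.fiberι y z)) t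
    have hk : RingHom.ker (algebraMap B S) = Ideal.span {g} := by
      have hk := H10Coh.FibreLift.ker_stalkMap_fiberι f y z
      have hm' : maximalIdeal (Y.presheaf.stalk (f (f.fiberι y z))) =
          (maximalIdeal (Y.presheaf.stalk y)).map (Y.presheaf.stalkSpecializes (specializes_of_eq hx)).hom := by
        have hw : ∀ (w : Y) (_ : w = y) (hs : w ⤳ y), maximalIdeal (Y.presheaf.stalk w) =
            (maximalIdeal (Y.presheaf.stalk y)).map (Y.presheaf.stalkSpecializes hs).hom := by
          rintro w rfl hs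
          simp
        exact hw _ hx _
      rw [hm', ht, Ideal.map_map, Ideal.map_span, Set.image_singleton] at hk
      exact hk
    have hgm : g ∈ maximalIdeal B := by
      have : Ideal.span {g} ≤ maximalIdeal B := hk ▸ IsLocalRing.le_maximalIdeal (RingHom.ker_ne_top _)
      exact this (Ideal.mem_span_singleton_self g)
    have hsm : IsSMulRegular B g := (isRegular_iff_mem_nonZeroDivisors.2 hreg).left.isSMulRegular
    have h := H4Depth.idealDepth_quotSMulTop_add_one hgm hsm
    let e : QuotSMulTop g B ≃ₗ[B] S :=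
      (Submodule.quotEquivOfEq _ (LinearMap.ker (Algebra.linearMap B S)) (by
        rw [← Submodule.ideal_span_singleton_smul, smul_eq_mul, Ideal.mul_top, ← hk]
        rfl)).trans ((Algebra.linearMap B S).quotKerEquivOfSurjective hs)
    rw [H4Depth.idealDepth_congr _ e] at h
    have hS0 : LocCoh.depth S S = 0 := by
      rw [H8Props.FlatDepth.depth_eq_of_surjective (R := B) hs]
      rw [LocCoh.depth] at hd ⊢
      have h' : LocCoh.idealDepth (maximalIdeal B) S + 1 ≤ 0 + 1 := by rw [h, zero_add]; exact hd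
      exact nonpos_iff_eq_zero.1 (WithTop.le_of_add_le_add_right ENat.one_ne_top h')
    obtain ⟨P, hP, hle⟩ := (H4Depth.idealDepth_eq_zero_iff_exists_associatedPrime
      (H4Depth.maximalIdeal_smul_top_ne_top (R := S) (M := S))).1 hS0
    obtain rfl : maximalIdeal S = P := (IsLocalRing.maximalIdeal.isMaximal S).eq_of_le hP.isPrime.ne_top hle
    exact hP
  intro w hw hwx
  obtain ⟨v, rfl⟩ : w ∈ Set.range (f.fiberι y) := by rw [f.range_fiberι]; exact hw
  have hvz : v ⤳ z := (f.fiberι y).isEmbedding.isInducing.specializes_iff.1 hwx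
  obtain ⟨m, hm, hmv⟩ := H7Lim.exists_isMaxPoint_specializes v
  have hmz : m = z := hfib z m hass (hassmax m hm) (hmv.trans hvz)
  subst hmz
  rw [(hvz.antisymm hmv).eq]

/-- Uniform order on the maximal points of a fibre without embedded points gives control. -/
theorem exists_controls_of_uniform (hY : Pi1.IsNormalScheme Y)
    (J : X.IdealSheafData) (hJ : BlowUp.IsEffCartierIdeal J)
    (hη : ∀ η : Y, (∀ z : Y, z ⤳ η → z = η) → J.comap (f.fiberι η) = ⊤)
    (hfib : ∀ y : Y, ringKrullDim (Y.presheaf.stalk y) = 1 → ∀ z z' : ↥(f.fiber y),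
      IsAssociatedPrime (maximalIdeal ((f.fiber y).presheaf.stalk z)) ((f.fiber y).presheaf.stalk z) →
      IsAssociatedPrime (maximalIdeal ((f.fiber y).presheaf.stalk z')) ((f.fiber y).presheaf.stalk z') →
      z' ⤳ z → z' = z)
    (hord : ∀ y : Y, ringKrullDim (Y.presheaf.stalk y) = 1 → ∃ n : ℕ, ∀ t : Y.presheaf.stalk y,
      maximalIdeal _ = Ideal.span {t} → ∀ (x : X) (hx : f x = y), (∀ z : X, f z = y → z ⤳ x → z = x) →
        IntMult.stalkIdeal J x =
          Ideal.span {((Y.presheaf.stalkSpecializes (specializes_of_eq hx) ≫ f.stalkMap x) t) ^ n})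
    (y : Y) (hy : LocCoh.depth (Y.presheaf.stalk y) (Y.presheaf.stalk y) ≤ 1) :
    ∃ L, Controls f J y L := by
  haveI := (hY y).1
  have hdim := ringKrullDim_le_one_of_depth hY y hy
  have hmax : ∀ (x : X), (∀ z : Y, z ⤳ f x → z = f x) → IntMult.stalkIdeal J x = ⊤ := fun x hz =>
    stalkIdeal_eq_top_of_fibre f J _ (hη _ hz) x rfl
  by_cases hF : IsField (Y.presheaf.stalk y)
  · refine ⟨⊤, fun x hx => ?_⟩
    rw [Ideal.map_top]
    obtain rfl := eq_of_specializes_of_isField hF hx
    exact hmax x fun z hz => eq_of_specializes_of_isField hF hz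
  haveI := isDiscreteValuationRing_stalk hY y hdim hF
  have h1 : ringKrullDim (Y.presheaf.stalk y) = 1 := IsPrincipalIdealRing.ringKrullDim_eq_one _ hF
  obtain ⟨π, hπ⟩ := IsDiscreteValuationRing.exists_irreducible (R := Y.presheaf.stalk y)
  have hm : maximalIdeal (Y.presheaf.stalk y) = Ideal.span {π} :=
    (IsDiscreteValuationRing.irreducible_iff_uniformizer _).1 hπ
  obtain ⟨n, hn⟩ := hord y h1
  refine ⟨Ideal.span {π ^ n}, fun x hx => ?_⟩
  rw [Ideal.map_span, Set.image_singleton, map_pow]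
  have hπnzd : ∀ (x : X) (hx : f x ⤳ y), (Y.presheaf.stalkSpecializes hx ≫ f.stalkMap x) π ∈
      nonZeroDivisors (X.presheaf.stalk x) :=
    fun x hx => mem_nonZeroDivisors_image f (mem_nonZeroDivisors_of_ne_zero hπ.ne_zero) x hx
  have htop : ∀ (x : X) (hx : f x ⤳ y), f x ≠ y →
      Ideal.span {((Y.presheaf.stalkSpecializes hx ≫ f.stalkMap x) π) ^ n} = ⊤ := by
    intro x hx hxy
    rw [Ideal.span_singleton_eq_top]
    refine IsUnit.pow _ ?_
    refine (IsUnit.map (f.stalkMap x).hom ?_ : IsUnit (f.stalkMap x (Y.presheaf.stalkSpecializes hx π)))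
    by_contra hu
    have hmem : π ∈ (primeOf hx).asIdeal := (mem_maximalIdeal _).2 hu
    exact hxy (primeOf_eq_closedPoint hY y hdim hF hx fun h0 => by
      rw [h0, Ideal.mem_bot] at hmem; exact hπ.ne_zero hmem)
  by_cases hxy : f x = y
  swap
  · rw [hmax x (isMax_of_ne hY y hdim hF hx hxy), htop x hx hxy]
  obtain ⟨b, hb, hJb⟩ := exists_gen_stalkIdeal hJ x
  have key : ∀ (x' : X) (h : x' ⤳ x), LocCoh.depth (X.presheaf.stalk x') (X.presheaf.stalk x') ≤ 1 →
      Ideal.span {X.presheaf.stalkSpecializes h b} = Ideal.span {X.presheaf.stalkSpecializes h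
        (((Y.presheaf.stalkSpecializes hx ≫ f.stalkMap x) π) ^ n)} := by
    intro x' h hd
    have e1 : Ideal.span {X.presheaf.stalkSpecializes h b} = IntMult.stalkIdeal J x' := by
      rw [H29Ref.stalkIdeal_specializes J h, hJb, Ideal.map_span, Set.image_singleton]
    have hsy : f x' ⤳ y := (h.map f.continuous).trans hx
    have e2 : X.presheaf.stalkSpecializes h ((Y.presheaf.stalkSpecializes hx ≫ f.stalkMap x) π) =
        (Y.presheaf.stalkSpecializes hsy ≫ f.stalkMap x') π := by
      show (Y.presheaf.stalkSpecializes _ ≫ f.stalkMap x ≫ X.presheaf.stalkSpecializes h) π = _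
      rw [← Scheme.Hom.stalkSpecializes_stalkMap f x' x h, ← Category.assoc,
        TopCat.Presheaf.stalkSpecializes_comp]
    rw [e1, map_pow, e2]
    by_cases hx'y : f x' = y
    · exact hn π hm x' hx'y (isMax_in_fibre f y π hm (hfib y h1) x' hx'y (hπnzd x' _) hd)
    · rw [hmax x' (isMax_of_ne hY y hdim hF hsy hx'y), htop x' hsy hx'y]
  rw [hJb]
  refine le_antisymm ((Ideal.span_singleton_le_iff_mem _).2 ?_) ((Ideal.span_singleton_le_iff_mem _).2 ?_)
  · exact mem_span_of_forall (pow_mem (hπnzd x hx) n) _ fun x' h _ hd =>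
      (key x' h hd).le (Ideal.mem_span_singleton_self _)
  · exact mem_span_of_forall hb _ fun x' h _ hd => (key x' h hd).ge (Ideal.mem_span_singleton_self _)

theorem descends_iff_uniform [Surjective f] (hf : QuasiCompact f ∨ IsOpenMap f) (hY : Pi1.IsNormalScheme Y)
    (hfib : ∀ y : Y, ringKrullDim (Y.presheaf.stalk y) = 1 → ∀ z z' : ↥(f.fiber y),
      IsAssociatedPrime (maximalIdeal ((f.fiber y).presheaf.stalk z)) ((f.fiber y).presheaf.stalk z) →
      IsAssociatedPrime (maximalIdeal ((f.fiber y).presheaf.stalk z')) ((f.fiber y).presheaf.stalk z') →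
      z' ⤳ z → z' = z)
    (J : X.IdealSheafData) (hJ : BlowUp.IsEffCartierIdeal J) :
    (∃ I : Y.IdealSheafData, BlowUp.IsEffCartierIdeal I ∧ I.comap f = J) ↔
      ((∀ η : Y, (∀ z : Y, z ⤳ η → z = η) → J.comap (f.fiberι η) = ⊤) ∧
        ∀ y : Y, ringKrullDim (Y.presheaf.stalk y) = 1 → ∃ n : ℕ, ∀ t : Y.presheaf.stalk y,
          maximalIdeal (Y.presheaf.stalk y) = Ideal.span {t} →
          ∀ (x : X) (hx : f x = y), (∀ z : X, f z = y → z ⤳ x → z = x) →
            (J.comap (X.fromSpecStalk x)).ideal ⟨⊤, isAffineOpen_top _⟩ =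
              Ideal.span {(Scheme.ΓSpecIso (X.presheaf.stalk x)).inv
                (((f.stalkMap x).hom ((Y.presheaf.stalkCongr (.of_eq hx.symm)).hom t)) ^ n)}) := by
  have conv : ∀ (y : Y) (n : ℕ) (t : Y.presheaf.stalk y) (x : X) (hx : f x = y),
      (J.comap (X.fromSpecStalk x)).ideal ⟨⊤, isAffineOpen_top _⟩ =
        Ideal.span {(Scheme.ΓSpecIso (X.presheaf.stalk x)).inv
          (((f.stalkMap x).hom ((Y.presheaf.stalkCongr (.of_eq hx.symm)).hom t)) ^ n)} ↔
      IntMult.stalkIdeal J x =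
        Ideal.span {((Y.presheaf.stalkSpecializes (specializes_of_eq hx) ≫ f.stalkMap x) t) ^ n} := by
    intro y n t x hx
    let e := (Scheme.ΓSpecIso (X.presheaf.stalk x)).inv
    have he : Function.Bijective e.hom := ConcreteCategory.bijective_of_isIso e
    rw [ideal_comap_fromSpecStalk]
    refine ⟨fun h => ?_, fun h => ?_⟩
    · refine Function.LeftInverse.injective (g := Ideal.comap e.hom) (f := Ideal.map e.hom)
        (fun K => Ideal.comap_map_of_bijective e.hom he) ?_
      rw [Ideal.map_span, Set.image_singleton]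
      exact h
    · rw [h, Ideal.map_span, Set.image_singleton]
      rfl
  constructor
  · rintro ⟨I, hI, rfl⟩
    refine ⟨((descends_iff_trivial_mp f hY I hI)), fun y hy => ?_⟩
    haveI := (hY y).1
    have hF : ¬ IsField (Y.presheaf.stalk y) := fun h => by
      letI := h.toField
      rw [ringKrullDim_eq_zero_of_field] at hy
      exact absurd hy (by simp)
    haveI := isDiscreteValuationRing_stalk hY y (hy ▸ by norm_num) hF
    obtain ⟨π, hπ⟩ := IsDiscreteValuationRing.exists_irreducible (R := Y.presheaf.stalk y)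
    obtain ⟨b, hb, hIb⟩ := exists_gen_stalkIdeal hI y
    obtain ⟨n, hn⟩ := IsDiscreteValuationRing.associated_pow_irreducible (nonZeroDivisors.ne_zero hb) hπ
    refine ⟨n, fun t ht x hx _ => (conv y n t x hx).2 ?_⟩
    rw [H3CAlg.DiagStalk.stalkIdeal_comap, H29Ref.stalkIdeal_specializes I (specializes_of_eq hx), hIb,
      Ideal.map_map, ← CommRingCat.hom_comp, Ideal.span_singleton_eq_span_singleton.2 hn,
      ← Ideal.span_singleton_pow, ← (IsDiscreteValuationRing.irreducible_iff_uniformizer π).1 hπ, ht,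
      Ideal.span_singleton_pow, Ideal.map_span, Set.image_singleton, map_pow]
  · rintro ⟨h₁, h₂⟩
    refine exists_descend f J (isQuotientMap_of_qc_or_open f hf) hJ
      (exists_controls_of_uniform f hY J hJ h₁ hfib fun y hy => ?_)
    obtain ⟨n, hn⟩ := h₂ y hy
    exact ⟨n, fun t ht x hx hmax => (conv y n t x hx).1 (hn t ht x hx hmax)⟩
where
  descends_iff_trivial_mp {X Y : Scheme.{u}} [IsLocallyNoetherian X] [IsLocallyNoetherian Y]
      (f : X ⟶ Y) (hY : Pi1.IsNormalScheme Y) (I : Y.IdealSheafData) (hI : BlowUp.IsEffCartierIdeal I) :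
      ∀ η : Y, (∀ z : Y, z ⤳ η → z = η) → (I.comap f).comap (f.fiberι η) = ⊤ := by
    intro η hη
    refine comap_fiberι_eq_top f _ η fun x hx => ?_
    subst hx
    obtain ⟨b, hb, hIb⟩ := exists_gen_stalkIdeal hI (f x)
    have hu : IsUnit b := by
      letI := (isField_of_isMax hY hη).toField
      exact (nonZeroDivisors.ne_zero hb).isUnit
    rw [H3CAlg.DiagStalk.stalkIdeal_comap, hIb, Ideal.span_singleton_eq_top.2 hu, Ideal.map_top]

end Groth.Agent.H7CDiv
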